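import Cfsg.Agent.J4Seven.Inputs

/-!
The facts needed for the elements of order seven, from the statements about the elementary subgroup of
order `2^11` and the second class of involutions.
-/

set_option autoImplicit false
set_option linter.style.haveILetI false
set_option linter.unusedSectionVars false

namespace CfsgLib.J4Seven

open Cfsg Subgroup CfsgLib.J4Local

variable {G : Type*} [Group G] [Finite G] {z : G} {P : Subgroup G}

theorem inputs_of (hJ : IsOfJankoFourTypeWith z P)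
    (normP : normalizer (P : Set G) ≤ centralizer ({z} : Set G))
    (three : ∀ x y : G, orderOf x = 3 → orderOf y = 3 → IsConj x y)
    (eleven : ∃ V : Subgroup G, Cfsg.IsElementaryAbelian 2 V ∧ Nat.card ↥V = 2 ^ 11)
    (norm : ∀ V : Subgroup G, Cfsg.IsElementaryAbelian 2 V → Nat.card ↥V = 2 ^ 11 →
      Subgroup.centralizer (V : Set G) ≤ V ∧ ∃ K : Subgroup G, K ≤ Subgroup.normalizer (V : Set G) ∧ K ⊓ V = ⊥ ∧
        K ⊔ V = Subgroup.normalizer (V : Set G) ∧ Cfsg.Spor.IsoM24 ↥K)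
    (orbits : ∀ V : Subgroup G, Cfsg.IsElementaryAbelian 2 V → Nat.card ↥V = 2 ^ 11 →
      ∃ t : G, t ∈ V ∧ t ≠ 1 ∧ ¬ IsConj z t)
    (cent : ∀ t : G, orderOf t = 2 → ¬ IsConj z t →
      ∃ V K : Subgroup G, V ≤ Subgroup.centralizer ({t} : Set G) ∧ K ≤ Subgroup.centralizer ({t} : Set G) ∧
        Subgroup.centralizer ({t} : Set G) ≤ Subgroup.normalizer (V : Set G) ∧ Cfsg.IsElementaryAbelian 2 V ∧
        Nat.card ↥V = 2 ^ 11 ∧ K ⊓ V = ⊥ ∧ K ⊔ V = Subgroup.centralizer ({t} : Set G) ∧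
        Nonempty (↥K ≃* MulAut ↥Cfsg.Spor.M22)) : Inputs z P := by
  refine ⟨hJ, normP, three, ?_, fun t ht hz => ?_⟩
  · obtain ⟨V, hV, hVc⟩ := eleven
    obtain ⟨t, htV, ht1, hz⟩ := orbits V hV hVc
    exact ⟨t, orderOf_eq_prime (hV.2 t htV) ht1, hz⟩
  · obtain ⟨V, K, hVt, -, hCN, hV, hVc, hKV, hKVs, he⟩ := cent t ht hz
    obtain ⟨hCV, L, hL, hLV, hLVs, hiso⟩ := norm V hV hVc
    refine ⟨V, K, L, hCV (Subgroup.mem_centralizer_iff.2 fun v hv => ?_), hV, hVc, hCN, hKV, hKVs, he, hL, hLV,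
      hLVs, hiso⟩
    exact mem_centralizer_singleton_iff.1 (hVt hv)

end CfsgLib.J4Seven
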