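import Cfsg.Agent.J4Seven.Centraliser
import Cfsg.Prelude.Def_TwoFusion

/-!
The centraliser and normaliser of a subgroup of order seven of the involution centraliser.
-/

set_option autoImplicit false
set_option linter.style.haveILetI false
set_option linter.unusedSectionVars false

namespace CfsgLib.J4Seven

open Cfsg CfsgLib.J4Local Subgroup

/-- Normalisers of subgroups of order seven without inverting elements. -/
theorem card_normalizer_three {H : Type*} [Group H] [Finite H] {x : H} (hx : orderOf x = 7)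
    (hno : ∀ g : H, g * x * g⁻¹ ≠ x⁻¹) (hex : ∃ g : H, g * x * g⁻¹ ∈ zpowers x ∧ g * x ≠ x * g) :
    Nat.card ↥(normalizer ((zpowers x : Subgroup H) : Set H)) =
      3 * Nat.card ↥(centralizer ({x} : Set H)) := by
  haveI : Fact (Nat.Prime 7) := ⟨by norm_num⟩
  set Z := zpowers x with hZ
  set N := normalizer (Z : Set H)
  set C := centralizer ({x} : Set H)
  have hCN : C ≤ N := by
    intro g hg
    refine mem_norm_zpowers.2 ?_
    rw [mem_centralizer_singleton_iff.1 hg, mul_inv_cancel_right]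
  have hker : C.subgroupOf N = Z.normalizerMonoidHom.ker := by
    rw [Subgroup.normalizerMonoidHom_ker, show centralizer (Z : Set H) = C from centralizer_eq_of_zpowers x]
  haveI : (C.subgroupOf N).Normal := hker ▸ inferInstance
  have hd : (C.subgroupOf N).index ∣ 6 := by
    haveI : IsCyclic ↥Z := ⟨⟨x, mem_zpowers _⟩, fun y => by
      obtain ⟨i, hi⟩ := y.2; exact ⟨i, Subtype.ext hi⟩⟩
    rw [hker, Subgroup.index_ker]
    refine (Subgroup.card_subgroup_dvd_card _).trans ?_
    rw [IsCyclic.card_mulAut, Nat.card_zpowers, hx, Nat.totient_prime (by norm_num)]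
  have hno2 : ¬ 2 ∣ (C.subgroupOf N).index := by
    intro h2
    rw [hker, Subgroup.index_ker] at h2
    obtain ⟨r, hr⟩ := exists_prime_orderOf_dvd_card' (G := Z.normalizerMonoidHom.range) 2 h2
    obtain ⟨b, hb⟩ := r.2
    rw [← Subgroup.orderOf_coe, ← hb] at hr
    clear hb
    set y : ↥Z := ⟨x, mem_zpowers _⟩
    have hy : orderOf y = 7 := by rw [Subgroup.orderOf_mk, hx]
    have hcases : ∀ w : ↥Z, ∃ k : Fin 7, w = y ^ (k : ℕ) := by
      intro w
      obtain ⟨i, hi⟩ := w.2
      refine ⟨⟨(i % 7).toNat, by omega⟩, Subtype.ext ?_⟩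
      rw [SubgroupClass.coe_pow, ← hi, ← zpow_natCast, Int.toNat_of_nonneg (by omega)]
      show x ^ i = x ^ (i % 7)
      conv_rhs => rw [← show ((orderOf x : ℕ) : ℤ) = 7 by rw [hx]; norm_num, zpow_mod_orderOf]
    obtain ⟨⟨k, hk⟩, hkk⟩ := hcases (Z.normalizerMonoidHom b y)
    have h1 : (Z.normalizerMonoidHom b) ((Z.normalizerMonoidHom b) y) = y := by
      rw [← MulAut.mul_apply, ← sq, ← hr, pow_orderOf_eq_one, MulAut.one_apply]
    rw [hkk, map_pow, hkk, ← pow_mul] at h1
    have h1' : y ^ (k * k % 7) = y ^ 1 := by rw [← hy, pow_mod_orderOf, pow_one]; exact h1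
    have hk' := pow_injOn_Iio_orderOf (by rw [hy]; exact Set.mem_Iio.2 (Nat.mod_lt _ (by norm_num)))
      (by rw [hy]; exact Set.mem_Iio.2 (by norm_num)) h1'
    have hk16 : k = 1 ∨ k = 6 := by interval_cases k <;> omega
    rcases hk16 with rfl | rfl
    · have hone : Z.normalizerMonoidHom b = 1 := by
        refine MulEquiv.ext fun w => ?_
        obtain ⟨j, rfl⟩ := hcases w
        rw [map_pow, hkk, pow_one, MulAut.one_apply]
      rw [hone, orderOf_one] at hr
      omega
    · have hb := congrArg Subtype.val hkk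
      refine hno b ?_
      have e6 : x⁻¹ = x ^ 6 := inv_eq_of_mul_eq_one_right (by rw [← pow_succ', show 6 + 1 = orderOf x by rw [hx], pow_orderOf_eq_one])
      rw [e6]
      simpa using hb
  have hne1 : (C.subgroupOf N).index ≠ 1 := by
    intro h1
    obtain ⟨g, hg, hgc⟩ := hex
    have hgN : g ∈ N := mem_norm_zpowers.2 (eq_of_le_of_card_ge (zpowers_le.2 hg)
      (by rw [Nat.card_zpowers, Nat.card_zpowers, orderOf_conj7]))
    refine hgc (mem_centralizer_singleton_iff.1 (Subgroup.mem_subgroupOf.1 (?_ : (⟨g, hgN⟩ : N) ∈ C.subgroupOf N)))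
    rw [Subgroup.index_eq_one.1 h1]
    exact Subgroup.mem_top _
  have h3 : (C.subgroupOf N).index = 3 := by
    have := Nat.le_of_dvd (by norm_num) hd
    interval_cases h : (C.subgroupOf N).index <;> omega
  have hprod := (C.subgroupOf N).card_mul_index
  rw [h3, Nat.card_congr (Subgroup.subgroupOfEquivOfLe hCN).toEquiv] at hprod
  omega

variable {G : Type*} [Group G] [Finite G] {z : G} {P : Subgroup G}

/-- Some involution outside the class of `z` is centralised by `d`. -/
theorem exists_ttype (hI : Inputs z P) {d : G} (hd : d ∈ cC z P) (hdo : orderOf d = 7) :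
    ∃ t : G, orderOf t = 2 ∧ ¬ IsConj z t ∧ t * d = d * t := by
  obtain ⟨t, ht, hz⟩ := hI.other
  obtain ⟨S, hS, hSt⟩ := exists_seven_centralizing hI ht hz
  obtain ⟨g, hg⟩ := conj_into_H hI ht hz hS hSt
  obtain ⟨h, -, hh⟩ := conj_seven hI.type hd.1 hdo (S := S.map (MulAut.conj g).toMonoidHom)
    (by rw [Subgroup.card_map_of_injective (MulAut.conj g).injective, hS]) hg
  refine ⟨(h * g) * t * (h * g)⁻¹, by rw [orderOf_conj7, ht],
    fun e => hz (e.trans (isConj_iff.2 ⟨(h * g)⁻¹, by group⟩)), ?_⟩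
  have hle : (S.map (MulAut.conj g).toMonoidHom).map (MulAut.conj h).toMonoidHom = zpowers d := by
    refine eq_of_le_of_card_ge ?_ ?_
    · rintro _ ⟨x, hx, rfl⟩; exact (hh x).1 hx
    · rw [Subgroup.card_map_of_injective (MulAut.conj h).injective,
        Subgroup.card_map_of_injective (MulAut.conj g).injective, hS, Nat.card_zpowers, hdo]
  obtain ⟨_, ⟨s, hs, rfl⟩, e⟩ := hle.ge (mem_zpowers d)
  have e' : d = h * (g * s * g⁻¹) * h⁻¹ := e.symm
  have hc := mem_centralizer_singleton_iff.1 (hSt hs)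
  rw [e']
  calc h * g * t * (h * g)⁻¹ * (h * (g * s * g⁻¹) * h⁻¹) = h * g * (t * s) * (h * g)⁻¹ := by group
    _ = h * g * (s * t) * (h * g)⁻¹ := by rw [hc]
    _ = _ := by group

/-- An element of order three centralised by `d`. -/
theorem card_cent_three (hI : Inputs z P) {d : G} (hdo : orderOf d = 7) {q : G} (hq : orderOf q = 3)
    (hqd : q * d = d * q) :
    Nat.card ↥(centralizer ({d} : Set G) ⊓ centralizer ({q} : Set G)) ∣ 84 := by
  obtain ⟨p, hp⟩ := exists_prime_orderOf_dvd_card' (G := ↥P) 3 (by rw [card_P hI.type])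
  obtain ⟨g, hg⟩ := isConj_iff.1 (hI.three q p hq (by rw [Subgroup.orderOf_coe, hp]))
  have hPp : zpowers (p : G) = P := eq_of_le_of_card_ge (zpowers_le.2 p.2)
    (by rw [Nat.card_zpowers, Subgroup.orderOf_coe, hp, card_P hI.type])
  have hle : centralizer ({(p : G)} : Set G) ≤ cH z := by
    refine le_trans ?_ hI.normP
    rw [← centralizer_eq_of_zpowers (p : G), hPp]
    exact centralizer_le_normalizer _
  have hd : g * d * g⁻¹ ∈ cH z := hle (mem_centralizer_singleton_iff.2 (by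
    rw [← hg]
    calc g * d * g⁻¹ * (g * q * g⁻¹) = g * (d * q) * g⁻¹ := by group
      _ = g * (q * d) * g⁻¹ := by rw [hqd]
      _ = _ := by group))
  rw [conj_inf_card g, hg, ← card_cent_any hI.type hd (by rw [orderOf_conj7, hdo]), inf_comm]
  exact card_dvd_of_le (inf_le_inf_right _ hle)

/-- The centraliser and normaliser of `⟨d⟩`. -/
theorem main_at (hI : Inputs z P) {d : G} (hd : d ∈ cC z P) (hdo : orderOf d = 7) :
    Nat.card ↥(centralizer ({d} : Set G)) = 840 ∧
    (∃ I : Subgroup G, Cfsg.IsInternalDirectProduct (zpowers d) I (centralizer ({d} : Set G)) ∧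
      Nonempty (↥I ≃* Equiv.Perm (Fin 5))) ∧
    (∀ g : G, g * d * g⁻¹ ≠ d⁻¹) ∧ (∃ g : G, g * d * g⁻¹ ∈ zpowers d ∧ g * d ≠ d * g) := by
  classical
  set C := centralizer ({d} : Set G) with hC
  have hdC : d ∈ C := mem_centralizer_singleton_iff.2 rfl
  set Z₀ := (zpowers d).subgroupOf C with hZ₀
  have hle : zpowers d ≤ C := zpowers_le.2 hdC
  have hcen : Z₀ ≤ center ↥C := by
    intro a ha
    rw [hZ₀, mem_subgroupOf] at ha
    obtain ⟨i, hi⟩ := ha
    refine mem_center_iff.2 fun b => Subtype.ext ?_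
    show (b : G) * a = a * b
    rw [← hi]
    exact ((show Commute (b : G) d from mem_centralizer_singleton_iff.1 b.2).zpow_right i).eq
  haveI : Z₀.Normal := ⟨fun n hn g => by
    rw [mem_center_iff.1 (hcen hn) g, mul_inv_cancel_right]; exact hn⟩
  let f : ↥C →* ↥C ⧸ Z₀ := QuotientGroup.mk' Z₀
  have hf : Function.Surjective f := QuotientGroup.mk'_surjective Z₀
  have hker : Nat.card f.ker = 7 := by
    rw [QuotientGroup.ker_mk', hZ₀, Nat.card_congr (Subgroup.subgroupOfEquivOfLe hle).toEquiv,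
      Nat.card_zpowers, hdo]
  have hcen' : f.ker ≤ center ↥C := by rw [QuotientGroup.ker_mk']; exact hcen
  have hpow : ∀ (g : ↥C) (n : ℕ), orderOf g = n → g ^ n = 1 := fun g n e => e ▸ pow_orderOf_eq_one g
  have hcard : ∀ g : ↥C, Nat.card (centralizer ({g} : Set ↥C)) =
      Nat.card ↥(C ⊓ centralizer ({(g : G)} : Set G)) := by
    intro g
    refine Nat.card_congr
      { toFun := fun a => ⟨a.1.1, a.1.2, mem_centralizer_singleton_iff.2
          (congrArg Subtype.val (mem_centralizer_singleton_iff.1 a.2))⟩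
        invFun := fun a => ⟨⟨a.1, a.2.1⟩, mem_centralizer_singleton_iff.2
          (Subtype.ext (mem_centralizer_singleton_iff.1 a.2.2))⟩
        left_inv := fun _ => rfl
        right_inv := fun _ => rfl }
  have horder : ∀ {u : ↥C}, orderOf u = orderOf (u : G) := fun {u} => (Subgroup.orderOf_coe u).symm
  let Zp : ↥C ⧸ Z₀ → Prop := fun u => ∃ g : ↥C, f g = u ∧ orderOf g = 2 ∧ IsConj z (g : G)
  have horderf : ∀ g : ↥C, orderOf g = 2 → orderOf (f g) = 2 := by
    intro g hg
    refine orderOf_eq_prime (by rw [← map_pow, hpow g 2 hg, map_one]) fun e => ?_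
    have h1 := Subgroup.orderOf_dvd_natCard _ (MonoidHom.mem_ker.2 e)
    rw [hg, hker] at h1
    norm_num at h1
  have hK : Kinds Zp := by
    refine ⟨?_, ?_, ?_, ?_, ?_, ?_⟩
    · rintro x u ⟨g, rfl, hg2, hgz⟩
      obtain ⟨c, rfl⟩ := hf x
      refine ⟨c * g * c⁻¹, by rw [map_mul, map_mul, map_inv], by rw [orderOf_conj7, hg2], hgz.trans ?_⟩
      exact isConj_iff.2 ⟨(c : G), rfl⟩
    · have hzC : z ∈ C := mem_centralizer_singleton_iff.2 (mem_cH.1 hd.1).symm
      have hz2 : orderOf (⟨z, hzC⟩ : ↥C) = 2 := by rw [Subgroup.orderOf_mk, orderOf_z hI.type]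
      exact ⟨f ⟨z, hzC⟩, horderf _ hz2, ⟨z, hzC⟩, rfl, hz2, IsConj.refl z⟩
    · obtain ⟨t, ht, hz, htd⟩ := exists_ttype hI hd hdo
      have htC : t ∈ C := mem_centralizer_singleton_iff.2 htd
      have ht2 : orderOf (⟨t, htC⟩ : ↥C) = 2 := by rw [Subgroup.orderOf_mk, ht]
      refine ⟨f ⟨t, htC⟩, horderf _ ht2, ?_⟩
      rintro ⟨g, hg, hg2, hgz⟩
      rw [eq_of_map_eq f hker hcen' (by norm_num : Nat.Coprime 2 7) (hpow g 2 hg2) (hpow _ 2 ht2) hg] at hgz
      exact hz hgz
    · rintro u - ⟨g, rfl, hg2, hgz⟩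
      have h1 := card_cent_map f hf hker hcen' (by norm_num : Nat.Coprime 2 7) (hpow g 2 hg2)
      rw [hcard, card_cent_ztype hI hd hdo (mem_centralizer_singleton_iff.1 g.2) hgz] at h1
      omega
    · intro u hu hZ
      obtain ⟨g, rfl, hg2⟩ := exists_lift f hf hker (n := 2) (by norm_num) hu
      have h1 := card_cent_map f hf hker hcen' (by norm_num : Nat.Coprime 2 7) (hpow g 2 hg2)
      rw [hcard, card_cent_ttype hI hd hdo (by rw [← horder]; exact hg2)
        (mem_centralizer_singleton_iff.1 g.2) (fun e => hZ ⟨g, rfl, hg2, e⟩)] at h1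
      omega
    · intro u hu h9
      obtain ⟨g, rfl, hg3⟩ := exists_lift f hf hker (n := 3) (by norm_num) hu
      have h1 := card_cent_map f hf hker hcen' (by norm_num : Nat.Coprime 3 7) (hpow g 3 hg3)
      have h2 := card_cent_three hI hdo (by rw [← horder]; exact hg3) (mem_centralizer_singleton_iff.1 g.2)
      rw [hcard] at h1
      rw [← h1] at h2
      have h3 : 7 * 9 ∣ 84 := (Nat.mul_dvd_mul (dvd_refl 7) h9).trans h2
      norm_num at h3
  have h120 := card_eq hK
  have hC840 : Nat.card ↥C = 840 := by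
    rw [Subgroup.card_eq_card_quotient_mul_card_subgroup Z₀, h120]
    rw [QuotientGroup.ker_mk'] at hker
    rw [hker]
  have hnoinv : ∀ g : G, g * d * g⁻¹ ≠ d⁻¹ := by
    intro g hg
    have hzC : z ∈ C := mem_centralizer_singleton_iff.2 (mem_cH.1 hd.1).symm
    have hyC : g * z * g⁻¹ ∈ C := by
      have h1 : Commute (g * z * g⁻¹) (g * d * g⁻¹) := by
        show _ * _ = _ * _
        calc g * z * g⁻¹ * (g * d * g⁻¹) = g * (z * d) * g⁻¹ := by group
          _ = g * (d * z) * g⁻¹ := by rw [mem_centralizer_singleton_iff.1 hzC]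
          _ = _ := by group
      rw [hg] at h1
      have h2 := h1.inv_right
      rw [inv_inv] at h2
      exact mem_centralizer_singleton_iff.2 h2.eq
    have hz2 : orderOf (⟨z, hzC⟩ : ↥C) = 2 := by rw [Subgroup.orderOf_mk, orderOf_z hI.type]
    have hy2 : orderOf (⟨g * z * g⁻¹, hyC⟩ : ↥C) = 2 := by
      rw [Subgroup.orderOf_mk, orderOf_conj7, orderOf_z hI.type]
    obtain ⟨x, hx⟩ := isConj_iff.1 (hK.isConj_Z (horderf _ hz2) ⟨_, rfl, hz2, IsConj.refl z⟩
      (horderf _ hy2) ⟨_, rfl, hy2, isConj_iff.2 ⟨g, rfl⟩⟩)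
    obtain ⟨c, rfl⟩ := hf x
    have e : c * ⟨z, hzC⟩ * c⁻¹ = ⟨g * z * g⁻¹, hyC⟩ :=
      eq_of_map_eq f hker hcen' (by norm_num : Nat.Coprime 2 7)
        (by rw [conj_pow, hpow _ 2 hz2, mul_one, mul_inv_cancel]) (hpow _ 2 hy2)
        (by rw [map_mul, map_mul, map_inv]; exact hx)
    have e' : (c : G) * z * (c : G)⁻¹ = g * z * g⁻¹ := congrArg Subtype.val e
    have hcd : (c : G) * d = d * c := mem_centralizer_singleton_iff.1 c.2
    refine not_inverted_H hI.type hd hdo (h := (c : G)⁻¹ * g) (mem_cH.2 ?_) ?_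
    · calc (c : G)⁻¹ * g * z = (c : G)⁻¹ * (g * z * g⁻¹) * g := by group
        _ = (c : G)⁻¹ * ((c : G) * z * (c : G)⁻¹) * g := by rw [e']
        _ = z * ((c : G)⁻¹ * g) := by group
    · calc (c : G)⁻¹ * g * d * ((c : G)⁻¹ * g)⁻¹ = (c : G)⁻¹ * (g * d * g⁻¹) * c := by group
        _ = (c : G)⁻¹ * (d⁻¹ * c) := by rw [hg]; group
        _ = (c : G)⁻¹ * (c * d⁻¹) := by rw [((show Commute (c : G) d from hcd).inv_right).eq]
        _ = d⁻¹ := by group
  refine ⟨hC840, ?_, hnoinv, ?_⟩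
  · obtain ⟨e⟩ := hK.nonempty_symFive
    have hco : (Nat.card ↥Z₀).Coprime Z₀.index := by
      rw [← QuotientGroup.ker_mk' Z₀, hker, QuotientGroup.ker_mk', Subgroup.index_eq_card, h120]
      norm_num
    obtain ⟨I, hI'⟩ := Subgroup.exists_right_complement'_of_coprime hco
    refine ⟨I.map C.subtype, ⟨hle, Subgroup.map_subtype_le I, ?_, ?_, ?_⟩, ⟨?_⟩⟩
    · rintro a ⟨i, rfl⟩ b hb
      have hbC := Subgroup.map_subtype_le I hb
      exact (((show Commute b d from mem_centralizer_singleton_iff.1 hbC).zpow_right i).symm).eq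
    · rw [eq_bot_iff]
      rintro x ⟨hx, ⟨y, hy, rfl⟩⟩
      have hy0 : y ∈ Z₀ := mem_subgroupOf.2 hx
      rw [Subgroup.mem_bot, ← OneMemClass.coe_one C]
      exact congrArg Subtype.val (hI'.disjoint.le_bot ⟨hy0, hy⟩ : y ∈ (⊥ : Subgroup ↥C))
    · refine le_antisymm (sup_le hle (Subgroup.map_subtype_le I)) fun x hx => ?_
      obtain ⟨⟨a, b⟩, hab⟩ := hI'.2 ⟨x, hx⟩
      have : x = ((a : ↥C) : G) * ((b : ↥C) : G) := (congrArg Subtype.val hab).symm
      rw [this]
      exact mul_mem (mem_sup_left (mem_subgroupOf.1 a.2)) (mem_sup_right ⟨b, b.2, rfl⟩)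
    · exact ((I.equivMapOfInjective C.subtype C.subtype_injective).symm.trans
        hI'.symm.QuotientMulEquiv.symm).trans e
  · obtain ⟨h, -, hn, hnc⟩ := exists_normalizing hI.type hd hdo
    exact ⟨h, hn, hnc⟩

/-- The structure of the centraliser and normaliser of a subgroup of order seven of the involution
centraliser. -/
theorem main (hI : Inputs z P) {S : Subgroup G} (hS : Nat.card S = 7) (hSz : S ≤ cH z) :
    ¬ (49 ∣ Nat.card G) ∧
    (∃ I : Subgroup G, Cfsg.IsInternalDirectProduct S I (centralizer (S : Set G)) ∧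
      Nonempty (↥I ≃* Equiv.Perm (Fin 5))) ∧
    Nat.card ↥(normalizer (S : Set G)) = 3 * Nat.card ↥(centralizer (S : Set G)) ∧
    Nat.card ↥(normalizer (S : Set G)) = 2 ^ 3 * 3 ^ 2 * 5 * 7 := by
  obtain ⟨d₀, hd₀, hdo₀⟩ := exists_seven_C hI.type
  obtain ⟨h840, ⟨I, hI'1, ⟨eI⟩⟩, hno, hex⟩ := main_at hI hd₀ hdo₀
  obtain ⟨h, -, hh⟩ := conj_seven hI.type hd₀.1 hdo₀ hS hSz
  set φ : G ≃* G := MulAut.conj h⁻¹
  have hSeq : S = (zpowers d₀).map φ.toMonoidHom := by
    ext x
    rw [hh x, mem_map_equiv]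
    simp [φ, MulAut.conj_symm_apply]
  set d := φ d₀ with hdd
  have hSd : S = zpowers d := by rw [hSeq, MonoidHom.map_zpowers]; rfl
  have hCd : centralizer (S : Set G) = (centralizer ({d₀} : Set G)).map φ.toMonoidHom := by
    ext x
    rw [hSd, centralizer_eq_of_zpowers, mem_map_equiv, mem_centralizer_singleton_iff,
      mem_centralizer_singleton_iff, hdd]
    constructor
    · intro e; exact φ.injective (by simpa using e)
    · intro e; simpa using congrArg φ e
  have hC : Nat.card ↥(centralizer (S : Set G)) = 840 := by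
    rw [hCd, Subgroup.card_map_of_injective φ.injective, h840]
  have hN : Nat.card ↥(normalizer (S : Set G)) = 3 * Nat.card ↥(centralizer (S : Set G)) := by
    rw [hSeq, ← Subgroup.map_equiv_normalizer_eq (zpowers d₀) φ, ← hSeq, hCd,
      Subgroup.card_map_of_injective φ.injective, Subgroup.card_map_of_injective φ.injective]
    exact card_normalizer_three hdo₀ hno hex
  refine ⟨?_, ⟨I.map φ.toMonoidHom, ?_, ⟨(I.equivMapOfInjective φ.toMonoidHom φ.injective).symm.trans eI⟩⟩, hN, ?_⟩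
  · intro h49
    haveI : Fact (Nat.Prime 7) := ⟨by norm_num⟩
    obtain ⟨K, hK, hSK⟩ := Sylow.exists_subgroup_card_pow_succ (p := 7) (n := 1) h49 (H := S) (by rw [hS, pow_one])
    haveI : IsMulCommutative ↥K := IsPGroup.isMulCommutative_of_card_eq_prime_sq (p := 7) hK
    have hKC : K ≤ centralizer (S : Set G) := fun x hx => Subgroup.mem_centralizer_iff.2 fun s hs =>
      congrArg Subtype.val (mul_comm' (⟨s, hSK hs⟩ : K) ⟨x, hx⟩)
    have := Subgroup.card_dvd_of_le hKC
    rw [hK, hC] at this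
    norm_num at this
  · obtain ⟨h1, h2, h3, h4, h5⟩ := hI'1
    rw [hCd, hSeq]
    refine ⟨map_mono h1, map_mono h2, ?_, ?_, ?_⟩
    · rintro _ ⟨a, ha, rfl⟩ _ ⟨b, hb, rfl⟩
      rw [← map_mul, h3 a ha b hb, map_mul]
    · rw [← Subgroup.map_inf _ _ _ φ.injective, h4, Subgroup.map_bot]
    · rw [← Subgroup.map_sup, h5]
  · rw [hN, hC]; norm_num

end CfsgLib.J4Seven
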