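import Cfsg.Agent.J4Local.M22Facts
import Cfsg.Agent.Golay.Centralisers
import Cfsg.Agent.S5599

/-!
Elements of order seven in the automorphism group of the Mathieu group of degree 22: their centralisers
have order 14 and none of them is inverted.
-/

set_option autoImplicit false
set_option linter.style.haveILetI false

namespace CfsgLib.J4Seven

open Cfsg CfsgLib.Golay CfsgLib.Golay.Cert CfsgLib.J4M22 Subgroup

theorem projInv_two : projInv * projInv = 1 := by decide +kernel

/-- Every automorphism is induced by an element of the Mathieu group of degree 24. -/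
theorem exists_perm (α : MulAut M) : ∃ π : Equiv.Perm GolayPt, π ∈ M24 ∧ ∀ x : M, (α x).1 = π * x.1 * π⁻¹ := by
  obtain ⟨-, hnorm, hnot⟩ := Cfsg.Agent.S5599.result projInv projInv_mem (by decide +kernel) (by decide +kernel)
  have hinn : ∀ β ∈ Inn M, ∃ h : M, ∀ x : M, (β x).1 = h.1 * x.1 * h.1⁻¹ := by
    rintro _ ⟨h, rfl⟩
    exact ⟨h, fun x => rfl⟩
  let σ : MulAut M :=
    { toFun := fun x => ⟨projInv * x.1 * projInv⁻¹, hnorm _ x.2⟩
      invFun := fun x => ⟨projInv * x.1 * projInv⁻¹, hnorm _ x.2⟩
      left_inv := fun x => Subtype.ext (by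
        show projInv * (projInv * x.1 * projInv⁻¹) * projInv⁻¹ = x.1
        rw [show projInv⁻¹ = projInv from inv_eq_of_mul_eq_one_right projInv_two]
        calc projInv * (projInv * x.1 * projInv) * projInv = (projInv * projInv) * x.1 * (projInv * projInv) := by
              group
          _ = x.1 := by rw [projInv_two, one_mul, mul_one])
      right_inv := fun x => Subtype.ext (by
        show projInv * (projInv * x.1 * projInv⁻¹) * projInv⁻¹ = x.1
        rw [show projInv⁻¹ = projInv from inv_eq_of_mul_eq_one_right projInv_two]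
        calc projInv * (projInv * x.1 * projInv) * projInv = (projInv * projInv) * x.1 * (projInv * projInv) := by
              group
          _ = x.1 := by rw [projInv_two, one_mul, mul_one])
      map_mul' := fun x y => Subtype.ext (by
        show projInv * (x.1 * y.1) * projInv⁻¹ = projInv * x.1 * projInv⁻¹ * (projInv * y.1 * projInv⁻¹)
        group) }
  have hσ : σ ∉ Inn M := by
    intro h
    obtain ⟨k, hk⟩ := hinn σ h
    exact hnot ⟨k.1, k.2, fun x hx => hk ⟨x, hx⟩⟩
  have hidx : (Inn M).index = 2 := out_m22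
  by_cases hα : α ∈ Inn M
  · obtain ⟨h, hh⟩ := hinn α hα
    exact ⟨h.1, (mem_m22.mp h.2).1, hh⟩
  · have hm : α * σ⁻¹ ∈ Inn M := by
      rw [Subgroup.mul_mem_iff_of_index_two hidx, Subgroup.inv_mem_iff]
      exact iff_of_false hα hσ
    obtain ⟨h, hh⟩ := hinn _ hm
    refine ⟨h.1 * projInv, mul_mem (mem_m22.mp h.2).1 projInv_mem, fun x => ?_⟩
    have h1 := hh (σ x)
    rw [MulAut.mul_apply, MulAut.inv_apply, MulEquiv.symm_apply_apply] at h1
    rw [h1]
    show h.1 * (projInv * x.1 * projInv⁻¹) * h.1⁻¹ = _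
    group

theorem orderOf_conj7 {H : Type*} [Group H] (g u : H) : orderOf (g * u * g⁻¹) = orderOf u := by
  simpa using orderOf_injective (MulAut.conj g).toMonoidHom (MulAut.conj g).injective u

theorem mem_norm_zpowers {H : Type*} [Group H] {g u : H} :
    g ∈ normalizer ((zpowers u : Subgroup H) : Set H) ↔ zpowers (g * u * g⁻¹) = zpowers u := by
  rw [Subgroup.mem_normalizer_iff_map_conj_eq, MonoidHom.map_zpowers]
  rfl

theorem inv_ne_self {H : Type*} [Group H] {x : H} (hx : orderOf x = 7) : x⁻¹ ≠ x := fun e => by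
  have : x ^ 2 = 1 := by rw [pow_two]; nth_rw 1 [← e]; exact inv_mul_cancel x
  have h := orderOf_dvd_of_pow_eq_one this
  rw [hx] at h
  norm_num at h

theorem not_inverted_M24 {π : M24} {x : M24} (hx : orderOf x = 7) : π * x * π⁻¹ ≠ x⁻¹ := by
  intro e
  set S := Subgroup.zpowers x
  obtain ⟨hN, hC, -⟩ := seven_normalizer (S := S) (by rw [Nat.card_zpowers, hx])
  have hmem : π ∈ normalizer (S : Set M24) := by
    rw [Subgroup.mem_normalizer_iff_map_conj_eq, MonoidHom.map_zpowers]
    show Subgroup.zpowers (π * x * π⁻¹) = _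
    rw [e, Subgroup.zpowers_inv]
  set C := (centralizer (S : Set M24)).subgroupOf (normalizer (S : Set M24))
  have hidx : C.index = 3 := by
    have h := C.card_mul_index
    rw [Nat.card_congr (Subgroup.subgroupOfEquivOfLe (Subgroup.centralizer_le_normalizer _)).toEquiv, hC, hN] at h
    omega
  haveI : C.Normal := by
    rw [show C = S.normalizerMonoidHom.ker by rw [Subgroup.normalizerMonoidHom_ker]]
    infer_instance
  have h3 : (⟨π, hmem⟩ : normalizer (S : Set M24)) ^ 3 ∈ C := hidx ▸ C.pow_index_mem _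
  have h2 : (⟨π, hmem⟩ : normalizer (S : Set M24)) ^ 2 ∈ C := by
    rw [Subgroup.mem_subgroupOf, Subgroup.mem_centralizer_iff]
    rintro y ⟨i, rfl⟩
    have : Commute (π ^ 2) x := by
      show π ^ 2 * x = x * π ^ 2
      have h' : π * x⁻¹ * π⁻¹ = x := by rw [← conj_inv, e, inv_inv]
      calc π ^ 2 * x = π * (π * x * π⁻¹) * π := by rw [sq]; group
        _ = π * x⁻¹ * π := by rw [e]
        _ = (π * x⁻¹ * π⁻¹) * π ^ 2 := by rw [sq]; group
        _ = x * π ^ 2 := by rw [h']
    exact ((this.zpow_right i).symm).eq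
  have h1 : (⟨π, hmem⟩ : normalizer (S : Set M24)) ∈ C := by
    have := mul_mem h3 (inv_mem h2)
    rwa [pow_succ', mul_inv_cancel_right] at this
  have hc := Subgroup.mem_centralizer_iff.1 (Subgroup.mem_subgroupOf.1 h1) x (Subgroup.mem_zpowers x)
  apply inv_ne_self hx
  rw [← e]
  show π * x * π⁻¹ = x
  rw [← hc]; group

/-- No automorphism inverts an element of order seven. -/
theorem not_inverted {x : M} (hx : orderOf x = 7) (α : MulAut M) : α x ≠ x⁻¹ := by
  intro e
  obtain ⟨π, hπ, hc⟩ := exists_perm α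
  have h := hc x
  rw [e] at h
  refine not_inverted_M24 (π := ⟨π, hπ⟩) (x := m22Incl x)
    (by rw [orderOf_injective _ m22Incl_injective, hx]) ?_
  exact Subtype.ext h.symm

theorem orderOf_conjAut (x : M) : orderOf (MulAut.conj x) = orderOf x :=
  orderOf_injective MulAut.conj J4M22.conj_injective x

theorem conj_conjAut (α : MulAut M) (x : M) : α * MulAut.conj x * α⁻¹ = MulAut.conj (α x) := by
  ext y
  simp [MulAut.conj_apply]

theorem exists_seven : ∃ x : M, orderOf x = 7 :=
  haveI : Fact (Nat.Prime 7) := ⟨by norm_num⟩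
  exists_prime_orderOf_dvd_card' 7 (by rw [card_M]; norm_num)

/-- An element of order seven of the automorphism group is inner. -/
theorem exists_inner {a : MulAut M} (ha : orderOf a = 7) : ∃ x : M, orderOf x = 7 ∧ MulAut.conj x = a := by
  have hidx : (Inn M).index = 2 := out_m22
  have h2 : a ^ 8 ∈ Inn M := by
    rw [show 8 = 2 * 4 by norm_num, pow_mul]
    exact pow_mem (Subgroup.sq_mem_of_index_two hidx a) 4
  have e : a ^ 8 = a := by rw [show 8 = 7 + 1 by norm_num, pow_succ, ← ha, pow_orderOf_eq_one, one_mul]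
  rw [e] at h2
  obtain ⟨x, rfl⟩ := h2
  exact ⟨x, by rwa [orderOf_conjAut] at ha, rfl⟩

/-- An element of order seven of the automorphism group has centraliser of order 14 and its
normaliser induces a group of order three on it. -/
theorem card_centralizer_aut_seven {a : MulAut M} (ha : orderOf a = 7) :
    Nat.card (centralizer ({a} : Set (MulAut M))) = 14 ∧
    Nat.card (normalizer ((zpowers a : Subgroup (MulAut M)) : Set (MulAut M))) = 42 := by
  haveI : Finite (MulAut M) := Finite.of_injective _ DFunLike.coe_injective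
  haveI : Fact (Nat.Prime 7) := ⟨by norm_num⟩
  obtain ⟨x, hx, rfl⟩ := exists_inner ha
  set φ : M →* MulAut M := MulAut.conj
  set Z := zpowers (φ x) with hZ
  set N := normalizer (Z : Set (MulAut M))
  have hidx : (Inn M).index = 2 := out_m22
  haveI : (Inn M).Normal := Subgroup.normal_of_index_eq_two hidx
  have hZI : Z ≤ Inn M := zpowers_le.2 ⟨x, rfl⟩
  -- the part inside the inner automorphisms
  have hNI : N ⊓ Inn M = (normalizer ((zpowers x : Subgroup M) : Set M)).map φ := by
    ext b
    constructor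
    · rintro ⟨hb, ⟨y, rfl⟩⟩
      refine ⟨y, ?_, rfl⟩
      have hb' := mem_norm_zpowers.1 hb
      refine mem_norm_zpowers.2 (Subgroup.map_injective J4M22.conj_injective ?_)
      rw [MonoidHom.map_zpowers, MonoidHom.map_zpowers, map_mul, map_mul, map_inv]
      exact hb'
    · rintro ⟨y, hy, rfl⟩
      refine ⟨mem_norm_zpowers.2 ?_, ⟨y, rfl⟩⟩
      have := congrArg (Subgroup.map φ) (mem_norm_zpowers.1 hy)
      rwa [MonoidHom.map_zpowers, MonoidHom.map_zpowers, map_mul, map_mul, map_inv] at this
  have hNIcard : Nat.card ↥(N ⊓ Inn M) = 21 := by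
    rw [hNI, Subgroup.card_map_of_injective J4M22.conj_injective, card_normalizer_seven hx]
  -- Frattini
  have hout : ∃ b ∈ N, b ∉ Inn M := by
    obtain ⟨α, hα⟩ : ∃ α : MulAut M, α ∉ Inn M := by
      by_contra hh
      push Not at hh
      rw [show Inn M = ⊤ from eq_top_iff.2 fun g _ => hh g, Subgroup.index_top] at hidx
      omega
    have hP : IsPGroup 7 ↥(zpowers x) := IsPGroup.of_card (n := 1) (by rw [Nat.card_zpowers, hx, pow_one])
    have hP' : IsPGroup 7 ↥(zpowers (α x)) :=
      IsPGroup.of_card (n := 1) (by rw [Nat.card_zpowers, MulEquiv.orderOf_eq, hx, pow_one])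
    have hi : ¬ 7 ∣ (zpowers x).index := by
      have := (zpowers x).card_mul_index
      rw [Nat.card_zpowers, hx, card_M] at this
      omega
    let S : Sylow 7 M := hP.toSylow hi
    obtain ⟨T, hT⟩ := hP'.exists_le_sylow
    obtain ⟨g, hg⟩ := MulAction.exists_smul_eq M T S
    refine ⟨φ g * α, ?_, fun hh => hα ((Subgroup.mul_mem_cancel_left _ (show φ g ∈ Inn M from ⟨g, rfl⟩)).1 hh)⟩
    have hmem : g * α x * g⁻¹ ∈ zpowers x := by
      show g * α x * g⁻¹ ∈ (S : Subgroup M)
      rw [← hg, Sylow.coe_subgroup_smul]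
      exact ⟨α x, hT (mem_zpowers _), rfl⟩
    have heq : zpowers (g * α x * g⁻¹) = zpowers x := eq_of_le_of_card_ge (zpowers_le.2 hmem) (by
      rw [Nat.card_zpowers, Nat.card_zpowers, orderOf_conj7, MulEquiv.orderOf_eq])
    refine mem_norm_zpowers.2 ?_
    have := congrArg (Subgroup.map φ) heq
    rw [MonoidHom.map_zpowers, MonoidHom.map_zpowers, map_mul, map_mul, map_inv, ← conj_conjAut α x] at this
    convert this using 2
    group
    rfl
  have hNcard : Nat.card N = 42 := by
    obtain ⟨b, hb, hbI⟩ := hout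
    have hi : ((Inn M).subgroupOf N).index = 2 := by
      have hd : ((Inn M).subgroupOf N).index ∣ (Inn M).index := Subgroup.relIndex_dvd_index_of_normal _ _
      rw [hidx] at hd
      rcases (Nat.dvd_prime Nat.prime_two).1 hd with e | e
      · exact absurd (Subgroup.mem_subgroupOf.1 (by rw [Subgroup.index_eq_one.1 e]; exact Subgroup.mem_top _ :
          (⟨b, hb⟩ : N) ∈ (Inn M).subgroupOf N)) hbI
      · exact e
    have := ((Inn M).subgroupOf N).card_mul_index
    rw [hi, ← Subgroup.inf_subgroupOf_right, inf_comm,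
      Nat.card_congr (Subgroup.subgroupOfEquivOfLe (inf_le_left : N ⊓ Inn M ≤ N)).toEquiv, hNIcard] at this
    omega
  refine ⟨?_, hNcard⟩
  -- the induced group
  set C := centralizer ({φ x} : Set (MulAut M))
  have hCN : C ≤ N := by
    intro b hb
    refine mem_norm_zpowers.2 ?_
    rw [mem_centralizer_singleton_iff.1 hb, mul_inv_cancel_right]
  have hC7 : C ⊓ Inn M = (centralizer ({x} : Set M)).map φ := by
    ext b
    constructor
    · rintro ⟨hb, ⟨y, rfl⟩⟩
      refine ⟨y, mem_centralizer_singleton_iff.2 (J4M22.conj_injective ?_), rfl⟩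
      simpa using mem_centralizer_singleton_iff.1 hb
    · rintro ⟨y, hy, rfl⟩
      refine ⟨mem_centralizer_singleton_iff.2 ?_, ⟨y, rfl⟩⟩
      rw [← map_mul, ← map_mul, mem_centralizer_singleton_iff.1 hy]
  have hker : C.subgroupOf N = Z.normalizerMonoidHom.ker := by
    have e : centralizer (Z : Set (MulAut M)) = C := by
      show centralizer ((zpowers (φ x) : Subgroup (MulAut M)) : Set (MulAut M)) = _
      rw [Subgroup.zpowers_eq_closure, Subgroup.centralizer_closure]
    rw [Subgroup.normalizerMonoidHom_ker, e]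
  haveI : (C.subgroupOf N).Normal := hker ▸ inferInstance
  have hcC : Nat.card ↥(C.subgroupOf N) = Nat.card C := Nat.card_congr (Subgroup.subgroupOfEquivOfLe hCN).toEquiv
  have hd : (C.subgroupOf N).index ∣ 6 := by
    haveI : IsCyclic ↥Z := ⟨⟨φ x, mem_zpowers _⟩, fun y => by
      obtain ⟨i, hi⟩ := y.2; exact ⟨i, Subtype.ext hi⟩⟩
    rw [hker, Subgroup.index_ker]
    refine (Subgroup.card_subgroup_dvd_card _).trans ?_
    rw [IsCyclic.card_mulAut, Nat.card_zpowers, orderOf_conjAut, hx, Nat.totient_prime (by norm_num)]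
  have hno2 : ¬ 2 ∣ (C.subgroupOf N).index := by
    intro h2
    rw [hker, Subgroup.index_ker] at h2
    obtain ⟨r, hr⟩ := exists_prime_orderOf_dvd_card' (G := Z.normalizerMonoidHom.range) 2 h2
    obtain ⟨b, hb⟩ := r.2
    rw [← Subgroup.orderOf_coe, ← hb] at hr
    clear hb
    set y : ↥Z := ⟨φ x, mem_zpowers _⟩
    have hy : orderOf y = 7 := by rw [Subgroup.orderOf_mk, orderOf_conjAut, hx]
    haveI : Fact (Nat.Prime 7) := ⟨by norm_num⟩
    have hcases : ∀ w : ↥Z, ∃ k : Fin 7, w = y ^ (k : ℕ) := by
      intro w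
      obtain ⟨i, hi⟩ := w.2
      refine ⟨⟨(i % 7).toNat, by omega⟩, Subtype.ext ?_⟩
      rw [SubgroupClass.coe_pow, ← hi, ← zpow_natCast, Int.toNat_of_nonneg (by omega)]
      show φ x ^ i = φ x ^ (i % 7)
      conv_rhs => rw [← show ((orderOf (φ x) : ℕ) : ℤ) = 7 by rw [orderOf_conjAut, hx]; norm_num, zpow_mod_orderOf]
    obtain ⟨⟨k, hk⟩, hkk⟩ := hcases (Z.normalizerMonoidHom b y)
    have h1 : (Z.normalizerMonoidHom b) ((Z.normalizerMonoidHom b) y) = y := by
      rw [← MulAut.mul_apply, ← sq, ← hr, pow_orderOf_eq_one, MulAut.one_apply]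
    rw [hkk, map_pow, hkk, ← pow_mul] at h1
    have h1' : y ^ (k * k % 7) = y ^ 1 := by rw [← hy, pow_mod_orderOf, pow_one]; exact h1
    have hk' := pow_injOn_Iio_orderOf (by rw [hy]; exact Set.mem_Iio.2 (Nat.mod_lt _ (by norm_num)))
      (by rw [hy]; exact Set.mem_Iio.2 (by norm_num)) h1'
    have hk16 : k = 1 ∨ k = 6 := by interval_cases k <;> omega
    rcases hk16 with rfl | rfl
    · have hone : Z.normalizerMonoidHom b = 1 := by
        refine MulEquiv.ext fun w => ?_
        obtain ⟨j, rfl⟩ := hcases w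
        rw [map_pow, hkk, pow_one, MulAut.one_apply]
      rw [hone, orderOf_one] at hr
      omega
    · have hb := congrArg Subtype.val hkk
      have e6 : (φ x) ^ 6 = φ x⁻¹ := by
        rw [map_inv]
        refine eq_inv_of_mul_eq_one_left ?_
        rw [← pow_succ, show 6 + 1 = orderOf (φ x) by rw [orderOf_conjAut, hx], pow_orderOf_eq_one]
      have hv : (b : MulAut M) * φ x * (b : MulAut M)⁻¹ = φ x⁻¹ := by
        rw [← e6]; simpa using hb
      rw [conj_conjAut] at hv
      exact not_inverted hx _ (J4M22.conj_injective hv)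
  have hCidx : (C.subgroupOf N).index = 1 ∨ (C.subgroupOf N).index = 3 := by
    have := Nat.le_of_dvd (by norm_num) hd
    interval_cases h : (C.subgroupOf N).index <;> omega
  have hprod := (C.subgroupOf N).card_mul_index
  rw [hcC, hNcard] at hprod
  rcases hCidx with e | e
  · exfalso
    rw [e, mul_one] at hprod
    have hC_all : C = N := eq_of_le_of_card_ge hCN (by omega)
    have h7 : Nat.card ↥(C ⊓ Inn M) = 7 := by
      rw [hC7, Subgroup.card_map_of_injective J4M22.conj_injective, card_centralizer_seven hx]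
    rw [hC_all, hNIcard] at h7
    omega
  · rw [e] at hprod; omega

end CfsgLib.J4Seven
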