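import Cfsg.Agent.J4Local.OrbitFix
import Cfsg.Agent.J4Seven.Aut22

/-!
The centraliser of the involution in a group of Janko-four type: centralisers and normalisers of
elements of order seven.
-/

set_option autoImplicit false
set_option linter.style.haveILetI false

namespace CfsgLib.J4Seven

open Cfsg CfsgLib.J4Local Subgroup

/-- Lifting centralisers and normalisers of elements of order seven along a coprime kernel. -/
theorem lift_conj {A Q : Type*} [Group A] [Group Q] [Finite A] (f : A →* Q) {d : A} (hd : d ^ 7 = 1)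
    (hK : ∀ k ∈ f.ker, k * d = d * k) (hco : (Nat.card f.ker).Coprime 7) {a : A} {i : ℕ}
    (h : f a * f d * (f a)⁻¹ = f d ^ i) : a * d * a⁻¹ = d ^ i := by
  set w := a * d * a⁻¹ * (d ^ i)⁻¹ with hw
  have hwk : w ∈ f.ker := by
    rw [MonoidHom.mem_ker, hw, map_mul, map_mul, map_mul, map_inv, map_inv, map_pow, h, mul_inv_cancel]
  have hc : Commute w (d ^ i) := (show Commute w d from hK w hwk).pow_right i
  have e : a * d * a⁻¹ = w * d ^ i := by rw [hw, inv_mul_cancel_right]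
  have h7 : w ^ 7 = 1 := by
    have h1 : (a * d * a⁻¹) ^ 7 = 1 := by rw [conj_pow, hd, mul_one, mul_inv_cancel]
    rw [e, hc.mul_pow, ← pow_mul, mul_comm i, pow_mul, hd, one_pow, mul_one] at h1
    exact h1
  have hn : w ^ Nat.card f.ker = 1 := by
    have := congrArg Subtype.val (pow_card_eq_one' (G := f.ker) (x := ⟨w, hwk⟩))
    simpa using this
  have : orderOf w ∣ 1 := by
    rw [← hco]
    exact Nat.dvd_gcd (orderOf_dvd_of_pow_eq_one hn) (orderOf_dvd_of_pow_eq_one h7)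
  rw [e, orderOf_eq_one_iff.1 (Nat.dvd_one.1 this), one_mul]

variable {G : Type*} [Group G] [Finite G] {z : G} {P : Subgroup G}

theorem card_H (hJ : IsOfJankoFourTypeWith z P) : Nat.card ↥(cH z) = 887040 * (3 * 2 ^ 13) := by
  obtain ⟨N, -, hNH, -, hcardN, ⟨hnor, ⟨e⟩⟩, -⟩ := hJ.2.2.2.2.1
  haveI := hnor
  rw [Subgroup.card_eq_card_quotient_mul_card_subgroup (N.subgroupOf (cH z)), Nat.card_congr e.toEquiv,
    card_aut_m22]
  congr 1
  rw [Nat.card_congr (Subgroup.subgroupOfEquivOfLe hNH).toEquiv, hcardN, card_E hJ]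

theorem A_inf_E (hJ : IsOfJankoFourTypeWith z P) : cA z P ⊓ cE z = Subgroup.zpowers z := by
  refine le_antisymm (fun x hx => ?_) (Subgroup.zpowers_le.mpr
    ⟨⟨z_mem_H, Subgroup.centralizer_le_normalizer _ (z_mem_C_P hJ)⟩, z_mem_E hJ⟩)
  rw [← E_inf_centralizer hJ]
  refine ⟨hx.2, Subgroup.mem_centralizer_iff.mpr fun q hq => ?_⟩
  have h1 : x * q * x⁻¹ * q⁻¹ ∈ P :=
    mul_mem ((Subgroup.mem_normalizer_iff.mp hx.1.2 q).mp hq) (inv_mem hq)
  have h2 : x * q * x⁻¹ * q⁻¹ ∈ cE z := by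
    have := (Subgroup.mem_normalizer_iff.mp (H_le_normalizer_E (P_le_H hJ hq)) x⁻¹).mp (inv_mem hx.2)
    simpa [mul_assoc] using mul_mem hx.2 this
  have hd : P ⊓ cE z = ⊥ := Subgroup.inf_eq_bot_of_coprime (by rw [card_P hJ, card_E hJ]; decide)
  have h3 : x * q * x⁻¹ * q⁻¹ = 1 := by simpa [hd] using (Subgroup.mem_inf.mpr ⟨h1, h2⟩)
  exact (mul_inv_eq_iff_eq_mul.mp (mul_inv_eq_one.mp h3)).symm

theorem exists_seven_C (hJ : IsOfJankoFourTypeWith z P) : ∃ d ∈ cC z P, orderOf d = 7 := by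
  haveI : Fact (Nat.Prime 7) := ⟨by norm_num⟩
  obtain ⟨d, hd⟩ := exists_prime_orderOf_dvd_card' (G := cC z P) 7 (by rw [card_C hJ]; norm_num)
  exact ⟨d, d.2, by rwa [Subgroup.orderOf_coe]⟩

/-- All subgroups of order seven of the centraliser are conjugate in it. -/
theorem conj_seven (hJ : IsOfJankoFourTypeWith z P) {d : G} (hd : d ∈ cH z) (hdo : orderOf d = 7)
    {S : Subgroup G} (hS : Nat.card S = 7) (hSH : S ≤ cH z) :
    ∃ h ∈ cH z, ∀ x : G, x ∈ S ↔ h * x * h⁻¹ ∈ zpowers d := by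
  haveI : Fact (Nat.Prime 7) := ⟨by norm_num⟩
  have hle : zpowers d ≤ cH z := zpowers_le.2 hd
  have hP : IsPGroup 7 ↥((zpowers d).subgroupOf (cH z)) := IsPGroup.of_card (n := 1) (by
    rw [Nat.card_congr (Subgroup.subgroupOfEquivOfLe hle).toEquiv, Nat.card_zpowers, hdo, pow_one])
  have hi : ¬ 7 ∣ ((zpowers d).subgroupOf (cH z)).index := by
    have := ((zpowers d).subgroupOf (cH z)).card_mul_index
    rw [Nat.card_congr (Subgroup.subgroupOfEquivOfLe hle).toEquiv, Nat.card_zpowers, hdo, card_H hJ] at this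
    omega
  let T : Sylow 7 ↥(cH z) := hP.toSylow hi
  obtain ⟨T', hT'⟩ := (IsPGroup.of_card (n := 1) (by
    rw [Nat.card_congr (Subgroup.subgroupOfEquivOfLe hSH).toEquiv, hS, pow_one]) :
      IsPGroup 7 ↥(S.subgroupOf (cH z))).exists_le_sylow
  obtain ⟨h, hh⟩ := MulAction.exists_smul_eq ↥(cH z) T' T
  refine ⟨h, h.2, ?_⟩
  have hmap : S.map (MulAut.conj (h : G)).toMonoidHom = zpowers d := by
    refine eq_of_le_of_card_ge ?_ ?_
    · rintro _ ⟨x, hx, rfl⟩
      have hm : h * (⟨x, hSH hx⟩ : ↥(cH z)) * h⁻¹ ∈ (T : Subgroup ↥(cH z)) := by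
        rw [← hh, Sylow.coe_subgroup_smul]
        exact ⟨⟨x, hSH hx⟩, hT' hx, rfl⟩
      exact hm
    · rw [Subgroup.card_map_of_injective (MulAut.conj (h : G)).injective, hS, Nat.card_zpowers, hdo]
  intro x
  rw [← hmap]
  exact (Subgroup.mem_map_iff_mem (MulAut.conj (h : G)).injective).symm

variable (hJ : IsOfJankoFourTypeWith z P) {d : G} (hd : d ∈ cC z P) (hdo : orderOf d = 7)

include hJ hd hdo

/-- The normaliser in the centraliser of the involution of `⟨d⟩` lies in the normaliser of `P`. -/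
theorem mem_A_of_normalizes {h : G} (hh : h ∈ cH z) {i : ℕ} (e : h * d * h⁻¹ = d ^ i) : h ∈ cA z P := by
  have hAH : cA z P ≤ normalizer (cE z : Set G) := inf_le_left.trans H_le_normalizer_E
  rw [H_eq hJ] at hh
  obtain ⟨a, ha, x, hx, rfl⟩ := (CfsgLib.Solvable.mem_sup_of_le_normalizer hAH).mp hh
  have hdA : d ∈ cA z P := C_le_A hd
  have hdH : d ∈ cH z := hd.1
  have he : x * d * x⁻¹ = a⁻¹ * d ^ i * a := by rw [← e]; group
  set w := x * d * x⁻¹ * d⁻¹ with hw
  have hwE : w ∈ cE z := by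
    have := (Subgroup.mem_normalizer_iff.mp (H_le_normalizer_E hdH) x⁻¹).mp (inv_mem hx)
    simpa [hw, mul_assoc] using mul_mem hx this
  have hwA : w ∈ cA z P := by
    rw [hw, he]
    exact mul_mem (mul_mem (mul_mem (inv_mem ha) (pow_mem hdA i)) ha) (inv_mem hdA)
  have hwz : w ∈ zpowers z := A_inf_E hJ ▸ Subgroup.mem_inf.2 ⟨hwA, hwE⟩
  have hzd : Commute z d := (show d * z = z * d from mem_cH.1 hdH).symm
  have hwd : Commute w d := by obtain ⟨j, hj⟩ := hwz; rw [← hj]; exact hzd.zpow_left j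
  have h7 : d ^ 7 = 1 := by rw [← hdo, pow_orderOf_eq_one]
  have hw7 : w ^ 7 = 1 := by
    have h1 : (x * d * x⁻¹) ^ 7 = 1 := by rw [conj_pow, h7, mul_one, mul_inv_cancel]
    rw [show x * d * x⁻¹ = w * d by rw [hw, inv_mul_cancel_right], hwd.mul_pow, h7, mul_one] at h1
    exact h1
  have hw2 : orderOf w ∣ 2 := by
    have := Subgroup.orderOf_dvd_natCard _ hwz
    rwa [Nat.card_zpowers, orderOf_z hJ] at this
  have hw1 : w = 1 := by
    have : orderOf w ∣ Nat.gcd 2 7 := Nat.dvd_gcd hw2 (orderOf_dvd_of_pow_eq_one hw7)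
    rw [← orderOf_eq_one_iff]
    exact Nat.dvd_one.1 this
  have hxd : x ∈ centralizer ({d} : Set G) :=
    mem_centralizer_singleton_iff.2 (mul_inv_eq_iff_eq_mul.1 (mul_inv_eq_one.1 hw1))
  have hxz : x ∈ zpowers z := E_inf_centralizer_seven hJ hd hdo ▸ Subgroup.mem_inf.2 ⟨hx, hxd⟩
  exact mul_mem ha (inf_le_left (a := cA z P) (A_inf_E hJ ▸ hxz : x ∈ cA z P ⊓ cE z))

/-- The data of the homomorphism onto the automorphism group at `d`. -/
theorem exists_image : ∃ f : ↥(cA z P) →* MulAut J4M22.M, Function.Surjective f ∧ Nat.card f.ker = 6 ∧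
    orderOf (f ⟨d, C_le_A hd⟩) = 7 ∧ ∀ k ∈ f.ker, k * ⟨d, C_le_A hd⟩ = ⟨d, C_le_A hd⟩ * k := by
  obtain ⟨f, hf, hker⟩ := exists_hom hJ
  have hk6 : Nat.card f.ker = 6 := by
    rw [hker, Nat.card_congr (Subgroup.subgroupOfEquivOfLe ((K_le_C hJ).trans C_le_A)).toEquiv, card_K hJ]
  haveI : Fact (Nat.Prime 7) := ⟨by norm_num⟩
  have h7 : (⟨d, C_le_A hd⟩ : ↥(cA z P)) ^ 7 = 1 := Subtype.ext (by
    rw [SubgroupClass.coe_pow, ← hdo, pow_orderOf_eq_one]; rfl)
  refine ⟨f, hf, hk6, orderOf_eq_prime (by rw [← map_pow, h7, map_one]) fun e => ?_, fun k hk => ?_⟩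
  · have := Subgroup.orderOf_dvd_natCard _ (MonoidHom.mem_ker.2 e)
    rw [Subgroup.orderOf_mk, hdo, hk6] at this
    norm_num at this
  · rw [hker, Subgroup.mem_subgroupOf] at hk
    apply Subtype.ext
    have hK : cK z P ≤ centralizer ({d} : Set G) := by
      refine sup_le (zpowers_le.2 (mem_centralizer_singleton_iff.2 (mem_cH.1 hd.1).symm)) fun p hp => ?_
      exact mem_centralizer_singleton_iff.2 (Subgroup.mem_centralizer_iff.1 hd.2 p hp)
    exact mem_centralizer_singleton_iff.1 (hK hk)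

/-- The centraliser of `d` in the centraliser of the involution has order 84. -/
theorem card_cent : Nat.card ↥(cH z ⊓ centralizer ({d} : Set G)) = 84 := by
  obtain ⟨f, hf, hk6, ho, hK⟩ := exists_image hJ hd hdo
  set d' : ↥(cA z P) := ⟨d, C_le_A hd⟩
  have h7 : d' ^ 7 = 1 := Subtype.ext (by rw [SubgroupClass.coe_pow, ← hdo, pow_orderOf_eq_one]; rfl)
  have heq : cH z ⊓ centralizer ({d} : Set G) =
      ((centralizer ({f d'} : Set (MulAut J4M22.M))).comap f).map (cA z P).subtype := by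
    ext g
    constructor
    · rintro ⟨hgH, hgd⟩
      have hgd' : g * d = d * g := mem_centralizer_singleton_iff.1 hgd
      have hA := mem_A_of_normalizes hJ hd hdo hgH (i := 1) (by rw [pow_one, hgd', mul_inv_cancel_right])
      refine ⟨⟨g, hA⟩, ?_, rfl⟩
      rw [SetLike.mem_coe, Subgroup.mem_comap, mem_centralizer_singleton_iff, ← map_mul, ← map_mul]
      exact congrArg f (Subtype.ext hgd')
    · rintro ⟨a, ha, rfl⟩
      rw [SetLike.mem_coe, Subgroup.mem_comap, mem_centralizer_singleton_iff] at ha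
      refine ⟨a.2.1, mem_centralizer_singleton_iff.2 ?_⟩
      have := congrArg Subtype.val (lift_conj f h7 hK (by rw [hk6]; norm_num) (a := a) (i := 1)
        (by rw [pow_one, ha, mul_inv_cancel_right]))
      rw [pow_one] at this
      exact mul_inv_eq_iff_eq_mul.1 this
  rw [heq, Subgroup.card_map_of_injective (cA z P).subtype_injective]
  obtain ⟨hc, -⟩ := card_centralizer_aut_seven ho
  have h1 := ((centralizer ({f d'} : Set (MulAut J4M22.M))).comap f).card_mul_index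
  have h2 := (centralizer ({f d'} : Set (MulAut J4M22.M))).card_mul_index
  rw [Subgroup.index_comap_of_surjective _ hf, card_A hJ] at h1
  rw [hc, show Nat.card (MulAut J4M22.M) = 887040 from card_aut_m22] at h2
  have hidx : (centralizer ({f d'} : Set (MulAut J4M22.M))).index = 63360 := by omega
  rw [hidx] at h1
  omega

/-- No element of the centraliser of the involution inverts `d`. -/
theorem not_inverted_H {h : G} (hh : h ∈ cH z) : h * d * h⁻¹ ≠ d⁻¹ := by
  intro e
  have h7 : d ^ 7 = 1 := by rw [← hdo, pow_orderOf_eq_one]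
  have e6 : d⁻¹ = d ^ 6 := inv_eq_of_mul_eq_one_right (by rw [← pow_succ', h7])
  have hA := mem_A_of_normalizes hJ hd hdo hh (i := 6) (by rw [e, e6])
  obtain ⟨f, hf, hk6, ho, hK⟩ := exists_image hJ hd hdo
  obtain ⟨x, hx, hxd⟩ := exists_inner ho
  have h1 : f ⟨h, hA⟩ * MulAut.conj x * (f ⟨h, hA⟩)⁻¹ = (MulAut.conj x)⁻¹ := by
    rw [hxd, ← map_inv f, ← map_mul, ← map_mul, ← map_inv f]
    exact congrArg f (Subtype.ext e)
  rw [conj_conjAut, ← map_inv] at h1
  exact not_inverted hx _ (J4M22.conj_injective h1)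

/-- Some element of the centraliser of the involution normalises `⟨d⟩` without centralising it. -/
theorem exists_normalizing : ∃ h ∈ cH z, h * d * h⁻¹ ∈ zpowers d ∧ h * d ≠ d * h := by
  obtain ⟨f, hf, hk6, ho, hK⟩ := exists_image hJ hd hdo
  set d' : ↥(cA z P) := ⟨d, C_le_A hd⟩
  obtain ⟨hc, hn⟩ := card_centralizer_aut_seven ho
  obtain ⟨q, hq, hqc⟩ : ∃ q ∈ normalizer ((zpowers (f d') : Subgroup (MulAut J4M22.M)) : Set (MulAut J4M22.M)),
      q ∉ centralizer ({f d'} : Set (MulAut J4M22.M)) := by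
    by_contra! hle
    haveI : Finite (MulAut J4M22.M) := Finite.of_injective _ DFunLike.coe_injective
    have := Nat.le_of_dvd Nat.card_pos (Subgroup.card_dvd_of_le hle)
    omega
  obtain ⟨a, rfl⟩ := hf q
  have hq' := mem_norm_zpowers.1 hq
  have hm : f a * f d' * (f a)⁻¹ ∈ zpowers (f d') := hq' ▸ mem_zpowers _
  obtain ⟨j, hj⟩ := hm
  have hj' : f a * f d' * (f a)⁻¹ = f d' ^ (j % 7).toNat := by
    rw [← zpow_natCast, Int.toNat_of_nonneg (by omega)]
    conv_rhs => rw [← show ((orderOf (f d') : ℕ) : ℤ) = 7 by rw [ho]; norm_num, zpow_mod_orderOf]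
    exact hj.symm
  have h7 : d' ^ 7 = 1 := Subtype.ext (by rw [SubgroupClass.coe_pow, ← hdo, pow_orderOf_eq_one]; rfl)
  have := congrArg Subtype.val (lift_conj f h7 hK (by rw [hk6]; norm_num) hj')
  refine ⟨a, a.2.1, ?_, fun e => hqc ?_⟩
  · have h2 : (a : G) * d * (a : G)⁻¹ = d ^ (j % 7).toNat := by simpa using this
    exact h2 ▸ pow_mem (mem_zpowers d) _
  · rw [mem_centralizer_singleton_iff, ← map_mul, ← map_mul]
    exact congrArg f (Subtype.ext e)

end CfsgLib.J4Seven
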