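import Cfsg.Agent.J4Seven.Inputs
import Cfsg.Agent.J4Seven.HSide
import Cfsg.Agent.Solvable.MaximalClass
import Cfsg.Agent.PLocal.Uniserial

/-!
Elements of order seven centralising an involution outside the class of `z`.
-/

set_option autoImplicit false
set_option linter.style.haveILetI false
set_option linter.unusedSectionVars false

namespace CfsgLib.J4Seven

open Cfsg CfsgLib.J4Local Subgroup

/-- In a 2-group an element with centraliser of order at most four bounds elementary subgroups. -/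
theorem elementary_le_four {T : Type*} [Group T] [Finite T] (hT : IsPGroup 2 T) {z : T}
    (hz : Nat.card (centralizer ({z} : Set T)) ≤ 4) {A : Subgroup T} (hA : ∀ a ∈ A, a * a = 1) :
    Nat.card A ≤ 4 := by
  haveI : Fact (Nat.Prime 2) := ⟨Nat.prime_two⟩
  by_contra hlt
  obtain ⟨n, hn⟩ := IsPGroup.iff_card.1 hT
  obtain ⟨k, hk⟩ := IsPGroup.iff_card.1 (hT.to_subgroup A)
  have hk3 : 3 ≤ k := by
    by_contra h
    have : 2 ^ k ≤ 2 ^ 2 := Nat.pow_le_pow_right (by norm_num) (by omega)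
    omega
  have hkn : k ≤ n := by
    have := A.card_subgroup_dvd_card
    rw [hk, hn] at this
    exact (Nat.pow_dvd_pow_iff_le_right (by norm_num)).1 this
  -- the class of `z` lies in a coset of the derived group
  have hidx : (commutator T).index ≤ 4 := by
    set C := centralizer ({z} : Set T)
    let f : T ⧸ C → ↥(commutator T) := fun q => Quotient.liftOn' q
      (fun g => ⟨g * z * g⁻¹ * z⁻¹, commutator_mem_commutator (mem_top g) (mem_top z)⟩) (by
        intro g h hgh
        rw [QuotientGroup.leftRel_apply] at hgh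
        apply Subtype.ext
        show g * z * g⁻¹ * z⁻¹ = h * z * h⁻¹ * z⁻¹
        have e := mem_centralizer_singleton_iff.1 hgh
        congr 1
        calc g * z * g⁻¹ = g * (z * (g⁻¹ * h)) * h⁻¹ := by group
          _ = g * (g⁻¹ * h * z) * h⁻¹ := by rw [e]
          _ = h * z * h⁻¹ := by group)
    have hf : Function.Injective f := by
      intro a b
      refine Quotient.inductionOn₂' a b fun g h e => ?_
      have e' : g * z * g⁻¹ * z⁻¹ = h * z * h⁻¹ * z⁻¹ := congrArg Subtype.val e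
      refine QuotientGroup.eq.2 (mem_centralizer_singleton_iff.2 ?_)
      have e2 := mul_right_cancel e'
      calc g⁻¹ * h * z = g⁻¹ * (h * z * h⁻¹) * h := by group
        _ = g⁻¹ * (g * z * g⁻¹) * h := by rw [e2]
        _ = z * (g⁻¹ * h) := by group
    have h1 := Nat.card_le_card_of_injective f hf
    rw [← index_eq_card] at h1
    have h2 := C.card_mul_index
    have h3 := (commutator T).card_mul_index
    by_contra hh
    have h4 : Nat.card C * C.index < (commutator T).index * Nat.card (commutator T) :=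
      Nat.mul_lt_mul_of_lt_of_le (by omega) h1 Nat.card_pos
    rw [mul_comm (commutator T).index] at h4
    omega
  -- the group is not abelian
  have hne : (⊤ : Subgroup T).lowerCentralSeries 1 ≠ ⊥ := by
    rw [Subgroup.top_lowerCentralSeries_one]
    intro h
    rw [h, index_bot, hn] at hidx
    have : 2 ^ 3 ≤ 2 ^ n := Nat.pow_le_pow_right (by norm_num) (by omega)
    omega
  have h4 := CfsgLib.Uniserial.sq_le_index_commutator hT hne
  rw [Subgroup.top_lowerCentralSeries_one] at h4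
  obtain ⟨C, hC, hCi⟩ := CfsgLib.MaximalClass.cyclic_index_two n (by omega) hn (by norm_num at h4; omega)
  haveI := normal_of_index_eq_two hCi
  have hd : (C.subgroupOf A).index ∣ 2 := hCi ▸ Subgroup.relIndex_dvd_index_of_normal C A
  have h8 := (C.subgroupOf A).card_mul_index
  have hcyc : Nat.card ↥(C.subgroupOf A) ≤ 2 := by
    haveI : IsCyclic ↥C := hC
    let φ : ↥(C.subgroupOf A) →* ↥C :=
      { toFun := fun a => ⟨a.1.1, a.2⟩
        map_one' := rfl
        map_mul' := fun _ _ => rfl }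
    have hφ : Function.Injective φ := fun a b e => Subtype.ext (Subtype.ext (show a.1.1 = b.1.1 from congrArg (fun c : ↥C => c.1) e))
    haveI : IsCyclic ↥(C.subgroupOf A) := isCyclic_of_injective φ hφ
    obtain ⟨g, hg⟩ := IsCyclic.exists_ofOrder_eq_natCard (α := ↥(C.subgroupOf A))
    rw [← hg]
    refine Nat.le_of_dvd (by norm_num) (orderOf_dvd_of_pow_eq_one ?_)
    apply Subtype.ext; apply Subtype.ext
    rw [pow_two]
    exact hA _ g.1.2
  have := Nat.mul_le_mul hcyc (Nat.le_of_dvd (by norm_num) hd)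
  omega

variable {G : Type*} [Group G] [Finite G]

/-- Subgroups of order seven are conjugate in a group whose order is not divisible by 49. -/
theorem conj_order_seven {W : Subgroup G} (hW : ¬ 49 ∣ Nat.card W) {T S : Subgroup G}
    (hT : T ≤ W) (hTc : Nat.card T = 7) (hS : S ≤ W) (hSc : Nat.card S = 7) :
    ∃ w ∈ W, S.map (MulAut.conj w).toMonoidHom = T := by
  haveI : Fact (Nat.Prime 7) := ⟨by norm_num⟩
  have hP : IsPGroup 7 ↥(T.subgroupOf W) := IsPGroup.of_card (n := 1) (by
    rw [Nat.card_congr (Subgroup.subgroupOfEquivOfLe hT).toEquiv, hTc, pow_one])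
  have hi : ¬ 7 ∣ (T.subgroupOf W).index := by
    intro hd
    apply hW
    rw [← (T.subgroupOf W).card_mul_index, Nat.card_congr (Subgroup.subgroupOfEquivOfLe hT).toEquiv, hTc]
    exact Nat.mul_dvd_mul (dvd_refl 7) hd
  let T₀ : Sylow 7 ↥W := hP.toSylow hi
  obtain ⟨S', hS'⟩ := (IsPGroup.of_card (n := 1) (by
    rw [Nat.card_congr (Subgroup.subgroupOfEquivOfLe hS).toEquiv, hSc, pow_one]) :
      IsPGroup 7 ↥(S.subgroupOf W)).exists_le_sylow
  obtain ⟨h, hh⟩ := MulAction.exists_smul_eq ↥W S' T₀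
  refine ⟨h, h.2, eq_of_le_of_card_ge ?_ ?_⟩
  · rintro _ ⟨x, hx, rfl⟩
    have hm : h * (⟨x, hS hx⟩ : ↥W) * h⁻¹ ∈ (T₀ : Subgroup ↥W) := by
      rw [← hh, Sylow.coe_subgroup_smul]
      exact ⟨⟨x, hS hx⟩, hS' hx, rfl⟩
    exact hm
  · rw [Subgroup.card_map_of_injective (MulAut.conj (h : G)).injective, hSc, hTc]

/-- Centraliser of an element of the complement in a split extension. -/
theorem card_cent_split {K V : Subgroup G} (hK : K ≤ normalizer (V : Set G)) (hd : K ⊓ V = ⊥) {k : G} (hk : k ∈ K) :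
    Nat.card ↥((K ⊔ V) ⊓ centralizer ({k} : Set G)) =
      Nat.card ↥(K ⊓ centralizer ({k} : Set G)) * Nat.card ↥(V ⊓ centralizer ({k} : Set G)) := by
  have hle : K ⊓ centralizer ({k} : Set G) ≤ normalizer ((V ⊓ centralizer ({k} : Set G) : Subgroup G) : Set G) := by
    intro g hg
    rw [Subgroup.mem_normalizer_iff_map_conj_eq]
    refine eq_of_le_of_card_ge ?_ (by rw [Subgroup.card_map_of_injective (MulAut.conj g).injective])
    rintro _ ⟨v, hv, rfl⟩
    exact Subgroup.mem_inf.2 ⟨(Subgroup.mem_normalizer_iff.1 (hK hg.1) v).1 hv.1,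
      (centralizer ({k} : Set G)).mul_mem ((centralizer ({k} : Set G)).mul_mem hg.2 hv.2)
        ((centralizer ({k} : Set G)).inv_mem hg.2)⟩
  have hd' : K ⊓ centralizer ({k} : Set G) ⊓ (V ⊓ centralizer ({k} : Set G)) = ⊥ :=
    eq_bot_iff.2 (fun x hx => hd ▸ Subgroup.mem_inf.2 ⟨hx.1.1, hx.2.1⟩)
  rw [← CfsgLib.Solvable.card_sup_of_disjoint hle hd']
  refine congrArg (fun X : Subgroup G => Nat.card ↥X) ?_
  refine le_antisymm ?_ (sup_le (inf_le_inf_right _ le_sup_left) (inf_le_inf_right _ le_sup_right))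
  rintro g ⟨hg, hgk⟩
  obtain ⟨a, ha, v, hv, rfl⟩ := (CfsgLib.Solvable.mem_sup_of_le_normalizer hK).1 hg
  have e : a * v * k * (a * v)⁻¹ = k := by rw [mem_centralizer_singleton_iff.1 hgk, mul_inv_cancel_right]
  have h1 : v * k * v⁻¹ * k⁻¹ ∈ V := by
    have := (Subgroup.mem_normalizer_iff.1 (hK hk) v⁻¹).1 (inv_mem hv)
    simpa [mul_assoc] using mul_mem hv this
  have h2 : v * k * v⁻¹ * k⁻¹ ∈ K := by
    have : v * k * v⁻¹ = a⁻¹ * k * a := by
      calc v * k * v⁻¹ = a⁻¹ * (a * v * k * (a * v)⁻¹) * a := by group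
        _ = a⁻¹ * k * a := by rw [e]
    rw [this]
    exact mul_mem (mul_mem (mul_mem (inv_mem ha) hk) ha) (inv_mem hk)
  have h3 : v * k * v⁻¹ * k⁻¹ = 1 := by simpa [hd] using Subgroup.mem_inf.2 ⟨h2, h1⟩
  have hvk : v ∈ centralizer ({k} : Set G) :=
    mem_centralizer_singleton_iff.2 (mul_inv_eq_iff_eq_mul.1 (mul_inv_eq_one.1 h3))
  have hak : a ∈ centralizer ({k} : Set G) := by
    have := (centralizer ({k} : Set G)).mul_mem hgk ((centralizer ({k} : Set G)).inv_mem hvk)
    rwa [mul_inv_cancel_right] at this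
  exact mul_mem (mem_sup_left (Subgroup.mem_inf.2 ⟨ha, hak⟩)) (mem_sup_right (Subgroup.mem_inf.2 ⟨hv, hvk⟩))

theorem card_inf_centralizer_of_equiv {Q : Type*} [Group Q] {K : Subgroup G} (e : K ≃* Q) (k : K) :
    Nat.card ↥(K ⊓ centralizer ({(k : G)} : Set G)) = Nat.card (centralizer ({e k} : Set Q)) := by
  refine Nat.card_congr
    { toFun := fun g => ⟨e ⟨g.1, g.2.1⟩, mem_centralizer_singleton_iff.2 ?_⟩
      invFun := fun q => ⟨(e.symm q.1 : G), (e.symm q.1).2, mem_centralizer_singleton_iff.2 ?_⟩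
      left_inv := fun g => Subtype.ext (by simp)
      right_inv := fun q => Subtype.ext (by simp) }
  · rw [← map_mul, ← map_mul]
    exact congrArg e (Subtype.ext (mem_centralizer_singleton_iff.1 g.2.2))
  · have h := congrArg e.symm (mem_centralizer_singleton_iff.1 q.2)
    rw [map_mul, map_mul, MulEquiv.symm_apply_apply] at h
    exact congrArg Subtype.val h

variable {z : G} {P : Subgroup G}

theorem card_split {t : G} {V K L : Subgroup G} (h : SplitAt t V K L) :
    Nat.card ↥(centralizer ({t} : Set G)) = 887040 * 2 ^ 11 ∧ Nat.card ↥(normalizer (V : Set G)) = 244823040 * 2 ^ 11 := by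
  obtain ⟨-, -, hVc, hCN, hKV, hKVs, ⟨e⟩, hL, hLV, hLVs, ⟨eL⟩⟩ := h
  refine ⟨?_, ?_⟩
  · have hK : K ≤ normalizer (V : Set G) := le_sup_left.trans (hKVs.le.trans hCN)
    rw [← hKVs, CfsgLib.Solvable.card_sup_of_disjoint hK hKV, Nat.card_congr e.toEquiv, hVc, card_aut_m22]
  · rw [← hLVs, CfsgLib.Solvable.card_sup_of_disjoint hL hLV, Nat.card_congr eL.toEquiv, hVc, CfsgLib.Golay.card_M24]

theorem exists_seven_centralizing (hI : Inputs z P) {t : G} (ht : orderOf t = 2) (hz : ¬ IsConj z t) :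
    ∃ S : Subgroup G, Nat.card S = 7 ∧ S ≤ centralizer ({t} : Set G) := by
  obtain ⟨V, K, L, h⟩ := hI.split t ht hz
  haveI : Fact (Nat.Prime 7) := ⟨by norm_num⟩
  obtain ⟨x, hx⟩ := exists_prime_orderOf_dvd_card' (G := ↥(centralizer ({t} : Set G))) 7
    (by rw [(card_split h).1]; norm_num)
  exact ⟨zpowers (x : G), by rw [Nat.card_zpowers, Subgroup.orderOf_coe, hx], zpowers_le.2 x.2⟩

/-- A subgroup of order seven centralising an involution outside the class of `z` is conjugate into `H`. -/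
theorem conj_into_H (hI : Inputs z P) {t : G} (ht : orderOf t = 2) (hz : ¬ IsConj z t) {S : Subgroup G}
    (hS : Nat.card S = 7) (hSt : S ≤ centralizer ({t} : Set G)) :
    ∃ g : G, S.map (MulAut.conj g).toMonoidHom ≤ cH z := by
  obtain ⟨V, K, L, h⟩ := hI.split t ht hz
  obtain ⟨hcC, hcN⟩ := card_split h
  obtain ⟨-, -, hVc, hCN, hKV, hKVs, -, hL, hLV, hLVs, ⟨eL⟩⟩ := h
  haveI : Fact (Nat.Prime 7) := ⟨by norm_num⟩
  haveI : Fact (Nat.Prime 3) := ⟨Nat.prime_three⟩
  obtain ⟨x, hx⟩ := exists_prime_orderOf_dvd_card' (G := ↥L) 7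
    (by rw [Nat.card_congr eL.toEquiv, CfsgLib.Golay.card_M24]; norm_num)
  obtain ⟨w, hw, hwS⟩ := conj_order_seven (W := normalizer (V : Set G)) (by rw [hcN]; norm_num)
    (T := zpowers (x : G)) (zpowers_le.2 (hL x.2)) (by rw [Nat.card_zpowers, Subgroup.orderOf_coe, hx])
    (hSt.trans hCN) hS
  obtain ⟨-, hc42, -⟩ := CfsgLib.Golay.Cert.seven_normalizer (S := zpowers (eL x))
    (by rw [Nat.card_zpowers, MulEquiv.orderOf_eq, hx])
  obtain ⟨q, hq⟩ := exists_prime_orderOf_dvd_card' (G := ↥(centralizer ((zpowers (eL x) : Subgroup M24) : Set M24))) 3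
    (by rw [hc42]; norm_num)
  set q' : G := ((eL.symm q.1 : L) : G)
  have hq3 : orderOf q' = 3 := by rw [Subgroup.orderOf_coe, MulEquiv.orderOf_eq, Subgroup.orderOf_coe, hq]
  have hqx : Commute (x : G) q' := by
    have h1 := congrArg eL.symm (Subgroup.mem_centralizer_iff.1 q.2 (eL x) (mem_zpowers _))
    rw [map_mul, map_mul, MulEquiv.symm_apply_apply] at h1
    exact congrArg Subtype.val h1
  obtain ⟨p, hp⟩ := exists_prime_orderOf_dvd_card' (G := ↥P) 3 (by rw [card_P hI.type])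
  obtain ⟨g, hg⟩ := isConj_iff.1 (hI.three q' p hq3 (by rw [Subgroup.orderOf_coe, hp]))
  refine ⟨g * w, ?_⟩
  rintro _ ⟨s, hs, rfl⟩
  have hs' : w * s * w⁻¹ ∈ zpowers (x : G) := hwS ▸ ⟨s, hs, rfl⟩
  obtain ⟨i, hi⟩ := hs'
  have hc : Commute (g * x * g⁻¹) (g * q' * g⁻¹) := by
    show _ * _ = _ * _
    calc g * x * g⁻¹ * (g * q' * g⁻¹) = g * (x * q') * g⁻¹ := by group
      _ = g * (q' * x) * g⁻¹ := by rw [hqx.eq]
      _ = _ := by group
  rw [hg] at hc
  have hPp : zpowers (p : G) = P := eq_of_le_of_card_ge (zpowers_le.2 p.2)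
    (by rw [Nat.card_zpowers, Subgroup.orderOf_coe, hp, card_P hI.type])
  have hmem : g * x * g⁻¹ ∈ cH z := by
    refine hI.normP (centralizer_le_normalizer _ (Subgroup.mem_centralizer_iff.2 fun y hy => ?_))
    rw [← hPp] at hy
    obtain ⟨j, rfl⟩ := hy
    exact ((hc.zpow_right j).symm).eq
  show g * w * s * (g * w)⁻¹ ∈ cH z
  have e : g * w * s * (g * w)⁻¹ = (g * x * g⁻¹) ^ i := by
    rw [conj_zpow, show (x : G) ^ i = w * s * w⁻¹ from hi]; group
  rw [e]
  exact zpow_mem hmem i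

end CfsgLib.J4Seven
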