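import Cfsg.Agent.J4Seven.SymFive
import Cfsg.Agent.J4Seven.TSide

/-!
The centraliser of an element of order seven modulo the cyclic group it generates.
-/

set_option autoImplicit false
set_option linter.style.haveILetI false
set_option linter.unusedSectionVars false

namespace CfsgLib.J4Seven

open Cfsg CfsgLib.J4Local Subgroup

section Quotient

variable {A Q : Type*} [Group A] [Group Q] [Finite A] (f : A →* Q)

theorem eq_of_map_eq (hker : Nat.card f.ker = 7) (hcen : f.ker ≤ center A) {g h : A} {n : ℕ}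
    (hn : n.Coprime 7) (hg : g ^ n = 1) (hh : h ^ n = 1) (e : f g = f h) : g = h := by
  have hk : g⁻¹ * h ∈ f.ker := by rw [MonoidHom.mem_ker, map_mul, map_inv, e, inv_mul_cancel]
  have hc : Commute g (g⁻¹ * h) := mem_center_iff.1 (hcen hk) g
  have h1 : (g⁻¹ * h) ^ n = 1 := by
    have := hc.mul_pow n
    rw [mul_inv_cancel_left, hh, hg, one_mul] at this
    exact this.symm
  have h7 : (g⁻¹ * h) ^ 7 = 1 := by
    have := congrArg Subtype.val (pow_card_eq_one' (G := f.ker) (x := ⟨g⁻¹ * h, hk⟩))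
    rwa [hker, SubgroupClass.coe_pow] at this
  have h2 : orderOf (g⁻¹ * h) ∣ Nat.gcd n 7 :=
    Nat.dvd_gcd (orderOf_dvd_of_pow_eq_one h1) (orderOf_dvd_of_pow_eq_one h7)
  rw [hn] at h2
  exact inv_mul_eq_one.1 (orderOf_eq_one_iff.1 (Nat.dvd_one.1 h2))

theorem exists_lift (hf : Function.Surjective f) (hker : Nat.card f.ker = 7) {x : Q} {n : ℕ} (hn : n ∣ 6)
    (hx : orderOf x = n) : ∃ g : A, f g = x ∧ orderOf g = n := by
  obtain ⟨g, rfl⟩ := hf x
  have hgn : g ^ n ∈ f.ker := by rw [MonoidHom.mem_ker, map_pow, ← hx, pow_orderOf_eq_one]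
  have h7 : (g ^ 7) ^ n = 1 := by
    have := congrArg Subtype.val (pow_card_eq_one' (G := f.ker) (x := ⟨g ^ n, hgn⟩))
    rw [hker, SubgroupClass.coe_pow] at this
    rw [← pow_mul, mul_comm, pow_mul]
    exact this
  have hfx : f (g ^ 7) = f g := by
    rw [map_pow, pow_succ]
    obtain ⟨c, hc⟩ := hn
    rw [hc, pow_mul, ← hx, pow_orderOf_eq_one, one_pow, one_mul]
  refine ⟨g ^ 7, hfx, Nat.dvd_antisymm (orderOf_dvd_of_pow_eq_one h7) ?_⟩
  rw [← hx]
  conv_lhs => rw [← hfx]
  exact orderOf_map_dvd f _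

theorem card_cent_map (hf : Function.Surjective f) (hker : Nat.card f.ker = 7) (hcen : f.ker ≤ center A)
    {g : A} {n : ℕ} (hn : n.Coprime 7) (hg : g ^ n = 1) :
    7 * Nat.card (centralizer ({f g} : Set Q)) = Nat.card (centralizer ({g} : Set A)) := by
  have e : (centralizer ({f g} : Set Q)).comap f = centralizer ({g} : Set A) := by
    ext a
    rw [mem_comap, mem_centralizer_singleton_iff, mem_centralizer_singleton_iff, ← map_mul, ← map_mul]
    refine ⟨fun h => ?_, fun h => by rw [h]⟩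
    have h1 : a * g * a⁻¹ = g := eq_of_map_eq f hker hcen hn (by rw [conj_pow, hg, mul_one, mul_inv_cancel]) hg
      (by rw [map_mul, h, ← map_mul, mul_inv_cancel_right])
    exact mul_inv_eq_iff_eq_mul.1 h1
  haveI : Finite Q := Finite.of_surjective f hf
  have h1 := ((centralizer ({f g} : Set Q)).comap f).card_mul_index
  rw [index_comap_of_surjective _ hf, e, card_eq_card_quotient_mul_card_subgroup f.ker, hker,
    Nat.card_congr (QuotientGroup.quotientKerEquivOfSurjective f hf).toEquiv,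
    ← (centralizer ({f g} : Set Q)).card_mul_index] at h1
  have hpos : 0 < (centralizer ({f g} : Set Q)).index := Nat.pos_of_ne_zero index_ne_zero_of_finite
  exact (Nat.eq_of_mul_eq_mul_right hpos (by rw [h1]; ring)).symm

end Quotient

variable {G : Type*} [Group G] [Finite G] {z : G} {P : Subgroup G}

theorem conj_inf_card (m a b : G) :
    Nat.card ↥(centralizer ({a} : Set G) ⊓ centralizer ({b} : Set G)) =
      Nat.card ↥(centralizer ({m * a * m⁻¹} : Set G) ⊓ centralizer ({m * b * m⁻¹} : Set G)) := by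
  have e : ∀ c : G, (centralizer ({c} : Set G)).map (MulAut.conj m).toMonoidHom =
      centralizer ({m * c * m⁻¹} : Set G) := by
    intro c
    ext x
    simp only [mem_map_equiv, mem_centralizer_singleton_iff, MulAut.conj_symm_apply]
    constructor
    · intro h
      calc x * (m * c * m⁻¹) = m * ((m⁻¹ * x * m) * c) * m⁻¹ := by group
        _ = m * (c * (m⁻¹ * x * m)) * m⁻¹ := by rw [h]
        _ = m * c * m⁻¹ * x := by group
    · intro h
      calc m⁻¹ * x * m * c = m⁻¹ * (x * (m * c * m⁻¹)) * m := by group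
        _ = m⁻¹ * (m * c * m⁻¹ * x) * m := by rw [h]
        _ = c * (m⁻¹ * x * m) := by group
  rw [← e, ← e, ← Subgroup.map_inf _ _ _ (MulAut.conj m).injective,
    Subgroup.card_map_of_injective (MulAut.conj m).injective]

theorem orderOf_conj_eq (m a : G) : orderOf (m * a * m⁻¹) = orderOf a := orderOf_conj7 m a

theorem centralizer_eq_of_zpowers (d : G) :
    centralizer ((zpowers d : Subgroup G) : Set G) = centralizer ({d} : Set G) := by
  rw [zpowers_eq_closure, centralizer_closure]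

theorem card_cent_zpowers {a b : G} (h : zpowers a = zpowers b) :
    centralizer ({a} : Set G) = centralizer ({b} : Set G) := by
  rw [← centralizer_eq_of_zpowers, h, centralizer_eq_of_zpowers]

/-- Every element of order seven of `H` has centraliser of order 84 there. -/
theorem card_cent_any (hJ : IsOfJankoFourTypeWith z P) {d : G} (hd : d ∈ cH z) (hdo : orderOf d = 7) :
    Nat.card ↥(cH z ⊓ centralizer ({d} : Set G)) = 84 := by
  obtain ⟨e, he, heo⟩ := exists_seven_C hJ
  obtain ⟨h, hh, hS⟩ := conj_seven hJ he.1 heo (S := zpowers d) (by rw [Nat.card_zpowers, hdo]) (zpowers_le.2 hd)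
  have hz : h * z * h⁻¹ = z := by rw [mem_cH.1 hh, mul_inv_cancel_right]
  have heq : zpowers (h * d * h⁻¹) = zpowers e := eq_of_le_of_card_ge (zpowers_le.2 ((hS d).1 (mem_zpowers d)))
    (by rw [Nat.card_zpowers, Nat.card_zpowers, orderOf_conj_eq, hdo, heo])
  show Nat.card ↥(centralizer ({z} : Set G) ⊓ centralizer ({d} : Set G)) = 84
  rw [conj_inf_card h, hz, card_cent_zpowers heq]
  exact card_cent hJ he heo

variable (hI : Inputs z P) {d : G} (hd : d ∈ cC z P) (hdo : orderOf d = 7)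

include hI hd hdo

/-- An elementary 2-subgroup centralised by `d` has order at most four. -/
theorem elementary_bound {A : Subgroup G} (hA : A ≤ centralizer ({d} : Set G)) (h2 : ∀ a ∈ A, a * a = 1) :
    Nat.card A ≤ 4 := by
  haveI : Fact (Nat.Prime 2) := ⟨Nat.prime_two⟩
  set C := centralizer ({d} : Set G)
  have hzC : z ∈ C := mem_centralizer_singleton_iff.2 (mem_cH.1 hd.1).symm
  set z' : ↥C := ⟨z, hzC⟩
  have hz2 : orderOf z' = 2 := by rw [Subgroup.orderOf_mk, orderOf_z hI.type]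
  obtain ⟨T, hT⟩ := (IsPGroup.of_card (n := 1) (by rw [Nat.card_zpowers, hz2, pow_one]) :
    IsPGroup 2 ↥(zpowers z')).exists_le_sylow
  have hA2 : IsPGroup 2 ↥(A.subgroupOf C) := by
    intro a
    refine ⟨1, Subtype.ext (Subtype.ext ?_)⟩
    rw [pow_one, pow_two]
    exact h2 _ a.2
  obtain ⟨R, hR⟩ := hA2.exists_le_sylow
  obtain ⟨c, hc⟩ := MulAction.exists_smul_eq ↥C R T
  set A' : Subgroup ↥C := (A.subgroupOf C).map (MulAut.conj c).toMonoidHom
  have hA'T : A' ≤ (T : Subgroup ↥C) := by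
    rintro _ ⟨a, ha, rfl⟩
    rw [← hc, Sylow.coe_subgroup_smul]
    exact ⟨a, hR ha, rfl⟩
  have hzT : z' ∈ (T : Subgroup ↥C) := hT (mem_zpowers z')
  have hcz : Nat.card (centralizer ({(⟨z', hzT⟩ : ↥(T : Subgroup ↥C))} : Set ↥(T : Subgroup ↥C))) ≤ 4 := by
    set S := centralizer ({(⟨z', hzT⟩ : ↥(T : Subgroup ↥C))} : Set ↥(T : Subgroup ↥C))
    obtain ⟨n, hn⟩ := IsPGroup.iff_card.1 (T.2.to_subgroup S)
    have hinj : Function.Injective ((C.subtype).comp (T : Subgroup ↥C).subtype) :=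
      C.subtype_injective.comp (T : Subgroup ↥C).subtype_injective
    have hdvd : Nat.card S ∣ 84 := by
      have e : Nat.card ↥(S.map ((C.subtype).comp (T : Subgroup ↥C).subtype)) = Nat.card S :=
        (Nat.card_congr (S.equivMapOfInjective _ hinj).toEquiv).symm
      rw [← card_cent hI.type hd hdo, ← e]
      refine card_dvd_of_le ?_
      rintro _ ⟨s, hs, rfl⟩
      have hs' := mem_centralizer_singleton_iff.1 hs
      exact Subgroup.mem_inf.2 ⟨mem_cH.2 (congrArg (fun x : ↥(T : Subgroup ↥C) => ((x : ↥C) : G)) hs'),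
        (s : ↥C).2⟩
    rw [hn] at hdvd ⊢
    have : n < 3 := by
      by_contra h
      exact absurd ((pow_dvd_pow 2 (not_lt.1 h)).trans hdvd) (by norm_num)
    calc 2 ^ n ≤ 2 ^ 2 := Nat.pow_le_pow_right (by norm_num) (by omega)
      _ = 4 := rfl
  have := elementary_le_four T.2 hcz (A := A'.subgroupOf (T : Subgroup ↥C)) (fun a ha => by
    obtain ⟨x, hx, hxa⟩ := ha
    have hx2 : x * x = 1 := Subtype.ext (h2 _ hx)
    apply Subtype.ext
    show (a : ↥C) * a = 1
    rw [show (a : ↥C) = c * x * c⁻¹ from hxa.symm]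
    calc c * x * c⁻¹ * (c * x * c⁻¹) = c * (x * x) * c⁻¹ := by group
      _ = 1 := by rw [hx2]; group)
  rwa [Nat.card_congr (Subgroup.subgroupOfEquivOfLe hA'T).toEquiv,
    Subgroup.card_map_of_injective (MulAut.conj c).injective,
    Nat.card_congr (Subgroup.subgroupOfEquivOfLe hA).toEquiv] at this

/-- A `z`-type involution centralised by `d`. -/
theorem card_cent_ztype {u : G} (hu : u * d = d * u) (hz : IsConj z u) :
    Nat.card ↥(centralizer ({d} : Set G) ⊓ centralizer ({u} : Set G)) = 84 := by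
  obtain ⟨m, rfl⟩ := isConj_iff.1 hz
  rw [conj_inf_card m⁻¹, show m⁻¹ * (m * z * m⁻¹) * m⁻¹⁻¹ = z by group, inf_comm]
  refine card_cent_any hI.type (mem_cH.2 ?_) (by rw [orderOf_conj_eq, hdo])
  calc m⁻¹ * d * m⁻¹⁻¹ * z = m⁻¹ * (d * (m * z * m⁻¹)) * m := by group
    _ = m⁻¹ * (m * z * m⁻¹ * d) * m := by rw [hu]
    _ = z * (m⁻¹ * d * m⁻¹⁻¹) := by group

/-- The other involutions centralised by `d`. -/
theorem card_cent_ttype {t : G} (ht : orderOf t = 2) (htd : t * d = d * t) (hz : ¬ IsConj z t) :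
    Nat.card ↥(centralizer ({d} : Set G) ⊓ centralizer ({t} : Set G)) = 56 := by
  obtain ⟨V, K, L, h⟩ := hI.split t ht hz
  obtain ⟨hcC, -⟩ := card_split h
  obtain ⟨htV, hVe, hVc, hCN, hKV, hKVs, ⟨e⟩, -⟩ := h
  haveI : Fact (Nat.Prime 7) := ⟨by norm_num⟩
  obtain ⟨x, hx⟩ := exists_prime_orderOf_dvd_card' (G := ↥K) 7
    (by rw [Nat.card_congr e.toEquiv, card_aut_m22]; norm_num)
  have hKC : K ≤ centralizer ({t} : Set G) := le_sup_left.trans hKVs.le
  obtain ⟨w, hw, hwS⟩ := conj_order_seven (W := centralizer ({t} : Set G)) (by rw [hcC]; norm_num)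
    (T := zpowers (x : G)) (zpowers_le.2 (hKC x.2)) (by rw [Nat.card_zpowers, Subgroup.orderOf_coe, hx])
    (S := zpowers d) (zpowers_le.2 (mem_centralizer_singleton_iff.2 htd.symm)) (by rw [Nat.card_zpowers, hdo])
  rw [MonoidHom.map_zpowers] at hwS
  have hwS' : zpowers (w * d * w⁻¹) = zpowers (x : G) := hwS
  have hwt : w * t * w⁻¹ = t := by rw [mem_centralizer_singleton_iff.1 hw, mul_inv_cancel_right]
  rw [conj_inf_card w, hwt, card_cent_zpowers hwS', inf_comm, ← hKVs,
    card_cent_split (hKC.trans hCN) hKV x.2, card_inf_centralizer_of_equiv e x,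
    (card_centralizer_aut_seven (by rw [MulEquiv.orderOf_eq, hx])).1]
  set A := V ⊓ centralizer ({(x : G)} : Set G)
  have hA4 : Nat.card A ≤ 4 := by
    have := elementary_bound hI hd hdo (A := A.map (MulAut.conj w⁻¹).toMonoidHom) ?_ ?_
    · rwa [Subgroup.card_map_of_injective (MulAut.conj w⁻¹).injective] at this
    · rintro _ ⟨a, ha, rfl⟩
      have h1 : a * (w * d * w⁻¹) = w * d * w⁻¹ * a := mem_centralizer_singleton_iff.1
        ((card_cent_zpowers hwS').ge ha.2)
      rw [mem_centralizer_singleton_iff]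
      show w⁻¹ * a * w⁻¹⁻¹ * d = d * (w⁻¹ * a * w⁻¹⁻¹)
      calc w⁻¹ * a * w⁻¹⁻¹ * d = w⁻¹ * (a * (w * d * w⁻¹)) * w := by group
        _ = w⁻¹ * (w * d * w⁻¹ * a) * w := by rw [h1]
        _ = d * (w⁻¹ * a * w⁻¹⁻¹) := by group
    · rintro _ ⟨a, ha, rfl⟩
      rw [← map_mul, ← sq, hVe.2 a ha.1, map_one]
  obtain ⟨k, hk, hk'⟩ := (Nat.dvd_prime_pow Nat.prime_two).1 (hVc ▸ Subgroup.card_dvd_of_le (inf_le_left : A ≤ V))
  have hk2 : k ≤ 2 := by
    by_contra hh
    have : 2 ^ 3 ≤ 2 ^ k := Nat.pow_le_pow_right (by norm_num) (by omega)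
    rw [hk'] at hA4
    omega
  have hxN : (x : G) ∈ normalizer (V : Set G) := hCN (hKC x.2)
  have hmod := modEq_ncard_fixed (q := 7) (g := (x : G)) (by rw [← hx, ← Subgroup.orderOf_coe, pow_orderOf_eq_one])
    (V : Set G) (fun v hv => (Subgroup.mem_normalizer_iff.1 hxN v).1 hv)
  have hfix : {s | s ∈ (V : Set G) ∧ (x : G) * s = s * x} = (A : Set G) := by
    ext s
    simp only [Set.mem_setOf_eq, SetLike.mem_coe, A, Subgroup.mem_inf, mem_centralizer_singleton_iff]
    exact and_congr_right fun _ => eq_comm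
  rw [hfix, ← Nat.card_coe_set_eq, ← Nat.card_coe_set_eq] at hmod
  have hmod' : Nat.card V % 7 = Nat.card A % 7 := hmod
  rw [hVc, hk'] at hmod'
  rw [hk']
  interval_cases k <;> norm_num at hmod'
  norm_num

end CfsgLib.J4Seven
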