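import Cfsg.Agent.J4Seven.Recog

/-!
The order of a group with the two kinds of involutions is 120 (Thompson's order formula).
-/

set_option autoImplicit false
set_option linter.style.haveILetI false
set_option linter.unusedSectionVars false

namespace CfsgLib.J4Seven

open Subgroup

variable {X : Type*} [Group X] [Finite X] {Z : X → Prop} {a t p : X}

/-- The pairs counted at `w`. -/
abbrev Pr (u v w : X) : Type _ := {q : X × X // IsConj u q.1 ∧ IsConj v q.2 ∧ w ∈ zpowers (q.1 * q.2)}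

theorem Base.refl_conj (hB : Base Z a t p) (i : ℤ) :
    p ^ (-i) * t * (p ^ (-i))⁻¹ = p ^ (-(2 * i)) * t ∧ (p ^ i * t) * (p ^ i * t) = 1 := by
  have h1 : t * p ^ i * t⁻¹ = (p ^ i)⁻¹ := by rw [← conj_zpow, hB.htp, inv_zpow]
  have h1' : t * p ^ i = (p ^ i)⁻¹ * t := by rw [← h1]; group
  refine ⟨?_, ?_⟩
  · rw [zpow_neg, inv_inv, mul_assoc, h1', ← mul_assoc, zpow_neg, two_mul, zpow_add, mul_inv_rev]
  · calc p ^ i * t * (p ^ i * t) = p ^ i * (t * p ^ i) * t := by group
      _ = p ^ i * ((p ^ i)⁻¹ * t) * t := by rw [h1']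
      _ = t * t := by group
      _ = 1 := CfsgLib.Invol.mul_self_eq_one hB.ht

theorem Base.pow_three (hB : Base Z a t p) (i : ℤ) : (p ^ i) ^ (3 : ℤ) = 1 := by
  rw [← zpow_mul, mul_comm, zpow_mul, show p ^ (3 : ℤ) = p ^ (3 : ℕ) from zpow_natCast p 3, ← hB.hp,
    pow_orderOf_eq_one, one_zpow]

theorem Base.reflection (hB : Base Z a t p) (i : ℤ) :
    IsConj t (p ^ i * t) ∧ IsConj a (a * p ^ i * t) := by
  have key : IsConj t (p ^ i * t) := by
    refine isConj_iff.2 ⟨p ^ (-i), ?_⟩
    rw [(hB.refl_conj i).1]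
    have h3 := hB.pow_three i
    congr 1
    calc p ^ (-(2 * i)) = p ^ (-(2 * i)) * (p ^ i) ^ (3 : ℤ) := by rw [h3, mul_one]
      _ = p ^ i := by rw [← zpow_mul, ← zpow_add]; congr 1; ring
  refine ⟨key, ?_⟩
  have hai : a * p ^ i = p ^ i * a := (show Commute a p from hB.hap).zpow_right i
  have ho : orderOf (p ^ i * t) = 2 := (orderOf_isConj key).trans hB.ht
  have hn : ¬ Z (p ^ i * t) := fun hh => hB.hZt ((hB.kinds.iff_of_conj key).2 hh)
  have hc : a * (p ^ i * t) = (p ^ i * t) * a := by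
    rw [← mul_assoc, hai, mul_assoc, hB.hat, mul_assoc]
  obtain ⟨x, _, hx⟩ := hB.kinds.shift hB.ha hB.hZa ho hn hc
  exact isConj_iff.2 ⟨x, by rw [hx, mul_assoc]⟩

/-- The involutions commuting with `a`. -/
theorem Base.invol_cases (hB : Base Z a t p) {g : X} (hg : g * a = a * g) (hg2 : orderOf g = 2) :
    g = a ∨ (∃ i : ℤ, g = a * p ^ i * t) ∨ ∃ i : ℤ, g = p ^ i * t := by
  obtain ⟨i, h | h | h | h⟩ := hB.list g hg
  · exfalso
    have := orderOf_dvd_of_mem_zpowers (show g ∈ zpowers p from ⟨i, h.symm⟩)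
    rw [hg2, hB.hp] at this; omega
  · left
    have hai : Commute a (p ^ i) := (show Commute a p from hB.hap).zpow_right i
    have h2 : (p ^ i) ^ (2 : ℤ) = 1 := by
      have hgg := CfsgLib.Invol.mul_self_eq_one hg2
      rw [h] at hgg
      calc (p ^ i) ^ (2 : ℤ) = (a * a) * (p ^ i * p ^ i) := by
            rw [CfsgLib.Invol.mul_self_eq_one hB.ha, one_mul, zpow_two]
        _ = a * p ^ i * (a * p ^ i) := (hai.symm.mul_mul_mul_comm a (p ^ i)).symm
        _ = 1 := hgg
    have h1 : p ^ i = 1 := by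
      calc p ^ i = (p ^ i) ^ (3 : ℤ) * ((p ^ i) ^ (2 : ℤ))⁻¹ := by group
        _ = 1 := by rw [hB.pow_three, h2]; group
    rw [h, h1, mul_one]
  · exact Or.inr (Or.inr ⟨i, h⟩)
  · exact Or.inr (Or.inl ⟨i, h⟩)

theorem Base.kind_refl (hB : Base Z a t p) (i : ℤ) : ¬ Z (p ^ i * t) ∧ Z (a * p ^ i * t) :=
  ⟨fun hh => hB.hZt ((hB.kinds.iff_of_conj (hB.reflection i).1).2 hh),
    (hB.kinds.iff_of_conj (hB.reflection i).2).1 hB.hZa⟩

theorem zpow_mod_three (hp : orderOf p = 3) (i : ℤ) : ∃ j : Fin 3, p ^ i = p ^ (j : ℕ) := by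
  have h1 := Int.emod_nonneg i (by norm_num : (3 : ℤ) ≠ 0)
  have h2 := Int.emod_lt_of_pos i (by norm_num : (0 : ℤ) < 3)
  refine ⟨⟨(i % 3).toNat, by omega⟩, ?_⟩
  rw [← zpow_natCast, Int.toNat_of_nonneg h1, ← zpow_mod_orderOf p i, hp]
  norm_num

/-- Nine pairs at `a`. -/
theorem Base.card_pairs_a (hB : Base Z a t p) : Nat.card (Pr a t a) = 9 := by
  let f : Fin 3 × Fin 3 → Pr a t a := fun ij =>
    ⟨(a * p ^ ((ij.1 : ℕ) : ℤ) * t, p ^ ((ij.2 : ℕ) : ℤ) * t), (hB.reflection _).2, (hB.reflection _).1, by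
      refine ⟨3, ?_⟩
      show (a * p ^ ((ij.1 : ℕ) : ℤ) * t * (p ^ ((ij.2 : ℕ) : ℤ) * t)) ^ (3 : ℤ) = a
      have h1 : t * p ^ ((ij.2 : ℕ) : ℤ) * t = p ^ (-((ij.2 : ℕ) : ℤ)) := by
        have h2 : t * p ^ ((ij.2 : ℕ) : ℤ) * t⁻¹ = (p ^ ((ij.2 : ℕ) : ℤ))⁻¹ := by
          rw [← conj_zpow, hB.htp, inv_zpow]
        rwa [inv_of_two hB.ht, ← zpow_neg] at h2
      rw [show a * p ^ ((ij.1 : ℕ) : ℤ) * t * (p ^ ((ij.2 : ℕ) : ℤ) * t) =
          a * (p ^ ((ij.1 : ℕ) : ℤ) * (t * p ^ ((ij.2 : ℕ) : ℤ) * t)) by group, h1, ← zpow_add,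
        ((show Commute a p from hB.hap).zpow_right _).mul_zpow, hB.pow_three, mul_one,
        show (3 : ℤ) = 2 + 1 by norm_num, zpow_add, zpow_two, CfsgLib.Invol.mul_self_eq_one hB.ha, one_mul,
        zpow_one]⟩
  have hinj : Function.Injective f := by
    rintro ⟨i, j⟩ ⟨i', j'⟩ e
    have e1 : a * p ^ ((i : ℕ) : ℤ) * t = a * p ^ ((i' : ℕ) : ℤ) * t := congrArg (fun q : Pr a t a => q.1.1) e
    have e2 : p ^ ((j : ℕ) : ℤ) * t = p ^ ((j' : ℕ) : ℤ) * t := congrArg (fun q : Pr a t a => q.1.2) e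
    have key : ∀ k l : Fin 3, p ^ ((k : ℕ) : ℤ) = p ^ ((l : ℕ) : ℤ) → k = l := fun k l hkl => by
      rw [zpow_natCast, zpow_natCast] at hkl
      exact Fin.ext (pow_injOn_Iio_orderOf (by simp [hB.hp, k.isLt]) (by simp [hB.hp, l.isLt]) hkl)
    rw [key i i' (mul_left_cancel (mul_right_cancel e1)), key j j' (mul_right_cancel e2)]
  have hsurj : Function.Surjective f := by
    rintro ⟨⟨x, y⟩, hx, hy, k, hk⟩
    have hx2 : orderOf x = 2 := (orderOf_isConj hx).trans hB.ha
    have hy2 : orderOf y = 2 := (orderOf_isConj hy).trans hB.ht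
    have hZx : Z x := (hB.kinds.iff_of_conj hx).1 hB.hZa
    have hZy : ¬ Z y := fun hh => hB.hZt ((hB.kinds.iff_of_conj hy).2 hh)
    obtain ⟨hxa, hya⟩ := not_even_fix hx2 hy2 hB.ha hk
    obtain ⟨j, hyj⟩ : ∃ j : ℤ, y = p ^ j * t := by
      rcases hB.invol_cases hya hy2 with e | ⟨i, e⟩ | h
      · exact absurd (e ▸ hB.hZa) hZy
      · exact absurd (e ▸ (hB.kind_refl i).2) hZy
      · exact h
    rcases hB.invol_cases hxa hx2 with e | ⟨i, e⟩ | ⟨i, e⟩
    · exfalso
      subst e
      have ho : orderOf (x * y) = 2 := mul_orderOf_two hx2 hy2 hya.symm fun e => hZy (e ▸ hZx)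
      have := eq_of_mem_zpowers_invol ho hx2 ⟨k, hk⟩
      exact CfsgLib.Invol.ne_one hy2 (mul_eq_left.1 this.symm)
    · obtain ⟨i', hi'⟩ := zpow_mod_three hB.hp i
      obtain ⟨j', hj'⟩ := zpow_mod_three hB.hp j
      have ex' : a * p ^ ((i' : ℕ) : ℤ) * t = x := by rw [zpow_natCast, ← hi']; exact e.symm
      have ey' : p ^ ((j' : ℕ) : ℤ) * t = y := by rw [zpow_natCast, ← hj']; exact hyj.symm
      exact ⟨(i', j'), Subtype.ext (Prod.ext ex' ey')⟩
    · exact absurd hZx (e ▸ (hB.kind_refl i).1)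
  rw [← Nat.card_congr (Equiv.ofBijective f ⟨hinj, hsurj⟩)]
  simp

theorem Base.a_ne (hB : Base Z a t p) : a ≠ t := fun e => hB.hZt (e ▸ hB.hZa)

theorem Base.conj_at (hB : Base Z a t p) : IsConj a (a * t) := by
  simpa using (hB.reflection 0).2

/-- No further involution of the second kind commutes with `t`: no pairs at `t`. -/
theorem Base.card_pairs_t_zero (hB : Base Z a t p)
    (hno : ∀ u, orderOf u = 2 → ¬ Z u → u * t = t * u → u = t) : Nat.card (Pr a t t) = 0 := by
  haveI : IsEmpty (Pr a t t) := by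
    refine ⟨?_⟩
    rintro ⟨⟨x, y⟩, hx, hy, k, hk⟩
    have hx2 : orderOf x = 2 := (orderOf_isConj hx).trans hB.ha
    have hy2 : orderOf y = 2 := (orderOf_isConj hy).trans hB.ht
    obtain ⟨hxt, hyt⟩ := not_even_fix hx2 hy2 hB.ht hk
    have e := hno y hy2 (fun hh => hB.hZt ((hB.kinds.iff_of_conj hy).2 hh)) hyt
    subst e
    have hne : x ≠ y := fun e => hB.hZt (e ▸ (hB.kinds.iff_of_conj hx).1 hB.hZa)
    have := eq_of_mem_zpowers_invol (mul_orderOf_two hx2 hy2 hxt hne) hy2 ⟨k, hk⟩
    exact CfsgLib.Invol.ne_one hx2 (mul_eq_right.1 this.symm)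
  exact Nat.card_of_isEmpty

theorem Base.comm_eq (hB : Base Z a t p) {b : X} (hbt : b * t = t * b) (hb2 : orderOf b = 2)
    (hb : b ≠ t ∧ b ≠ a ∧ b ≠ a * t) : a * b ≠ b * a := fun e => by
  rcases hB.kinds.four hB.ha hB.hZa hB.ht hB.hZt hB.hat e.symm hbt with h | h | h | h
  · exact CfsgLib.Invol.ne_one hb2 h
  · exact hb.2.1 h
  · exact hb.1 h
  · exact hb.2.2 h

/-- The eight elements centralising `t`. -/
theorem Base.cent_t (hB : Base Z a t p) {b : X} (hbt : b * t = t * b) (hb2 : orderOf b = 2)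
    (hb : b ≠ t ∧ b ≠ a ∧ b ≠ a * t) {g : X} (hg : g * t = t * g) :
    g = 1 ∨ g = t ∨ g = a ∨ g = a * t ∨ g = b ∨ g = b * t ∨ g = a * b ∨ g = a * b * t := by
  classical
  haveI := Fintype.ofFinite X
  have hnc := hB.comm_eq hbt hb2 hb
  let v : Fin 8 → X := ![1, t, a, a * t, b, b * t, a * b, a * b * t]
  have hT : ∀ i, v i ∈ (centralizer ({t} : Set X) : Set X) := by
    have ht0 : t ∈ centralizer ({t} : Set X) := mem_cent.2 rfl
    have ha0 : a ∈ centralizer ({t} : Set X) := mem_cent.2 hB.hat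
    have hb0 : b ∈ centralizer ({t} : Set X) := mem_cent.2 hbt
    intro i
    fin_cases i
    exacts [one_mem _, ht0, ha0, mul_mem ha0 ht0, hb0, mul_mem hb0 ht0, mul_mem ha0 hb0,
      mul_mem (mul_mem ha0 hb0) ht0]
  have key : ∀ i j : Fin 4, ∀ e : Fin 2, ![1, a, b, a * b] i = ![1, a, b, a * b] j * ![1, t] e →
      i = j ∧ e = 0 := by
    have ha1 := CfsgLib.Invol.ne_one hB.ha
    have ht1 := CfsgLib.Invol.ne_one hB.ht
    have hb1 := CfsgLib.Invol.ne_one hb2
    have haa := CfsgLib.Invol.mul_self_eq_one hB.ha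
    have htt := CfsgLib.Invol.mul_self_eq_one hB.ht
    have n1 : a ≠ t := hB.a_ne
    have n2 : a * t ≠ 1 := fun e => n1 (by rw [eq_inv_of_mul_eq_one_left e, inv_of_two hB.ht])
    have n3 : b * t ≠ 1 := fun e => hb.1 (by rw [eq_inv_of_mul_eq_one_left e, inv_of_two hB.ht])
    have n4 : a * b ≠ 1 := fun e => hb.2.1 (by rw [eq_inv_of_mul_eq_one_right e, inv_of_two hB.ha])
    have n5 : a * b ≠ t := fun e => hb.2.2 (by rw [← e, ← mul_assoc, haa, one_mul])
    have n6 : b * t ≠ a := fun e => hb.2.2 (by rw [← e, mul_assoc, htt, mul_one])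
    have n7 : a * b * t ≠ 1 := fun e => n5 (by rw [eq_inv_of_mul_eq_one_left e, inv_of_two hB.ht])
    have n8 : a * b ≠ a := fun e => hb1 (mul_eq_left.1 e)
    have n9 : a * b * t ≠ a := fun e => n3 (mul_eq_left.1 (by rw [← mul_assoc]; exact e))
    have n10 : a * b ≠ b := fun e => ha1 (mul_eq_right.1 e)
    have n11 : a * b * t ≠ b := fun e => hnc (by
      have e' : a * b = b * t := by
        calc a * b = a * b * t * t := by rw [mul_assoc _ t, htt, mul_one]
          _ = b * t := by rw [e]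
      have e2 : a = b * t * b := by rw [← e', mul_assoc, CfsgLib.Invol.mul_self_eq_one hb2, mul_one]
      have e3 : a = t := by rw [e2, hbt, mul_assoc, CfsgLib.Invol.mul_self_eq_one hb2, mul_one]
      exact absurd e3 n1)
    have n14 : a * b ≠ b * t := fun e => n11 (by rw [e, mul_assoc, htt, mul_one])
    have n12 : a * t ≠ b := fun e => hb.2.2 e.symm
    intro i j e
    fin_cases i <;> fin_cases j <;> fin_cases e <;> intro hh <;>
      simp only [Matrix.cons_val_zero, Matrix.cons_val_one, Matrix.cons_val] at hh <;>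
      simp at hh ⊢ <;>
      first
        | exact ha1 hh | exact ha1 hh.symm | exact ht1 hh | exact ht1 hh.symm | exact hb1 hh | exact hb1 hh.symm
        | exact n1 hh | exact n1 hh.symm | exact hb.1 hh | exact hb.1 hh.symm | exact hb.2.1 hh
        | exact hb.2.1 hh.symm | exact n2 hh | exact n2 hh.symm | exact n3 hh | exact n3 hh.symm
        | exact n4 hh | exact n4 hh.symm | exact n5 hh | exact n5 hh.symm | exact n6 hh | exact n6 hh.symm
        | exact n7 hh | exact n7 hh.symm | exact n8 hh | exact n8 hh.symm | exact n9 hh | exact n9 hh.symm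
        | exact n10 hh | exact n10 hh.symm | exact n11 hh | exact n11 hh.symm | exact n14 hh | exact n14 hh.symm | exact n12 hh | exact n12 hh.symm
  have hv : Function.Injective v := by
    have hdec : ∀ k : Fin 8, ∃ (i : Fin 4) (e : Fin 2), k.val = 2 * i.val + e.val := fun k =>
      ⟨⟨k.val / 2, by omega⟩, ⟨k.val % 2, by omega⟩, by simp only; omega⟩
    have hval : ∀ (k : Fin 8) (i : Fin 4) (e : Fin 2), k.val = 2 * i.val + e.val →
        v k = ![1, a, b, a * b] i * ![1, t] e := by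
      intro k i e h
      fin_cases i <;> fin_cases e <;> fin_cases k <;> simp [v] at h ⊢
    intro k l hkl
    obtain ⟨i, e, he⟩ := hdec k
    obtain ⟨j, f, hf⟩ := hdec l
    rw [hval k i e he, hval l j f hf] at hkl
    apply Fin.ext
    have htt := CfsgLib.Invol.mul_self_eq_one hB.ht
    fin_cases e <;> fin_cases f
    · have hk' := key i j 0 (by simpa using hkl)
      rw [he, hf, hk'.1]
    · exact absurd (key i j 1 (by simpa using hkl)).2 (by decide)
    · exact absurd (key j i 1 (by simpa using hkl.symm)).2 (by decide)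
    · have hk' := key i j 0 (by simpa using hkl)
      rw [he, hf, hk'.1]
  have heq : Set.range v = (centralizer ({t} : Set X) : Set X) := by
    refine Set.eq_of_subset_of_ncard_le (Set.range_subset_iff.2 hT) ?_
    rw [Set.ncard_range_of_injective hv]
    have := hB.kinds.eight t hB.ht hB.hZt
    rw [show ((centralizer ({t} : Set X) : Set X)).ncard = 8 by rw [← Nat.card_coe_set_eq]; exact this]
    simp
  obtain ⟨i, rfl⟩ : g ∈ Set.range v := by rw [heq]; exact mem_cent.2 hg
  fin_cases i <;> simp [v]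

/-- `a` conjugates `b` to `b t`; `a b` has order four. -/
theorem Base.twist (hB : Base Z a t p) {b : X} (hbt : b * t = t * b) (hb2 : orderOf b = 2)
    (hb : b ≠ t ∧ b ≠ a ∧ b ≠ a * t) :
    a * b * a⁻¹ = b * t ∧ (a * b) * (a * b) = t ∧ orderOf (a * b) ≠ 2 ∧ orderOf (a * b * t) ≠ 2 := by
  have hnc := hB.comm_eq hbt hb2 hb
  have haa := CfsgLib.Invol.mul_self_eq_one hB.ha
  have hbb := CfsgLib.Invol.mul_self_eq_one hb2
  have htt := CfsgLib.Invol.mul_self_eq_one hB.ht
  have hab : (a * b) * t = t * (a * b) := by rw [mul_assoc, hbt, ← mul_assoc, hB.hat, mul_assoc]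
  have key : a * b * a⁻¹ = b * t := by
    rw [inv_of_two hB.ha]
    have hc : (a * b * a) * t = t * (a * b * a) := by
      calc a * b * a * t = a * b * (a * t) := mul_assoc _ _ _
        _ = a * b * t * a := by rw [hB.hat, mul_assoc (a * b) t a]
        _ = t * (a * b) * a := by rw [hab]
        _ = _ := mul_assoc _ _ _
    have ho : orderOf (a * b * a) = 2 := by
      have := orderOf_conj' a b
      rw [inv_of_two hB.ha] at this
      rw [this, hb2]
    have hne : a * b * a ≠ b := fun e => hnc (by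
      calc a * b = a * b * a * a := by rw [mul_assoc _ a, haa, mul_one]
        _ = b * a := by rw [e])
    rcases hB.cent_t hbt hb2 hb hc with e | e | e | e | e | e | e | e
    · exact absurd e (CfsgLib.Invol.ne_one ho)
    · exfalso
      apply hb.1
      calc b = a * (a * b * a) * a := by rw [← mul_assoc, ← mul_assoc, haa, one_mul, mul_assoc, haa, mul_one]
        _ = a * t * a := by rw [e]
        _ = t := by rw [hB.hat, mul_assoc, haa, mul_one]
    · exfalso
      apply hb.2.1
      calc b = a * (a * b * a) * a := by rw [← mul_assoc, ← mul_assoc, haa, one_mul, mul_assoc, haa, mul_one]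
        _ = a * a * a := by rw [e]
        _ = a := by rw [haa, one_mul]
    · exfalso
      apply hb.2.2
      calc b = a * (a * b * a) * a := by rw [← mul_assoc, ← mul_assoc, haa, one_mul, mul_assoc, haa, mul_one]
        _ = a * (a * t) * a := by rw [e]
        _ = a * t := by rw [← mul_assoc, haa, one_mul, ← hB.hat]
    · exact absurd e hne
    · exact e
    · exact absurd (mul_eq_left.1 e) (CfsgLib.Invol.ne_one hB.ha)
    · exact absurd (mul_left_cancel e) hB.a_ne
  have hsq : (a * b) * (a * b) = t := by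
    calc a * b * (a * b) = a * b * a⁻¹ * b := by rw [inv_of_two hB.ha]; group
      _ = t * (b * b) := by rw [key, hbt, mul_assoc]
      _ = t := by rw [hbb, mul_one]
  refine ⟨key, hsq, fun h => ?_, fun h => ?_⟩
  · exact CfsgLib.Invol.ne_one hB.ht (hsq ▸ CfsgLib.Invol.mul_self_eq_one h)
  · refine CfsgLib.Invol.ne_one hB.ht ?_
    calc t = (a * b) * (a * b) * (t * t) := by rw [hsq, htt, mul_one]
      _ = (a * b * t) * (a * b * t) := ((show Commute (a * b) t from hab).symm.mul_mul_mul_comm (a * b) t).symm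
      _ = 1 := CfsgLib.Invol.mul_self_eq_one h

/-- Four pairs at `t` when `b` has the second kind. -/
theorem Base.card_pairs_t_four (hB : Base Z a t p) {b : X} (hbt : b * t = t * b) (hb2 : orderOf b = 2)
    (hZb : ¬ Z b) (hbne : b ≠ t) : Nat.card (Pr a t t) = 4 := by
  have hb : b ≠ t ∧ b ≠ a ∧ b ≠ a * t :=
    ⟨hbne, fun e => hZb (e ▸ hB.hZa), fun e => hZb (e ▸ (hB.kinds.iff_of_conj hB.conj_at).1 hB.hZa)⟩
  obtain ⟨htw, hsq, hnab, hnabt⟩ := hB.twist hbt hb2 hb
  have hZt' : ∀ u, orderOf u = 2 → ¬ Z u → IsConj t u := fun u hu hZu =>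
    hB.kinds.isConj_non hB.ha hB.hZa hB.ht hB.hZt hu hZu
  have hb' : IsConj t b := hZt' b hb2 hZb
  have hbt' : IsConj t (b * t) := hb'.trans (isConj_iff.2 ⟨a, htw⟩)
  have htt := CfsgLib.Invol.mul_self_eq_one hB.ht
  have hab : (a * b) * t = t * (a * b) := by rw [mul_assoc, hbt, ← mul_assoc, hB.hat, mul_assoc]
  let u : Fin 2 → X := ![a, a * t]
  let w : Fin 2 → X := ![b, b * t]
  have hu : ∀ i, IsConj a (u i) := fun i => by
    fin_cases i
    exacts [IsConj.refl a, hB.conj_at]
  have hw : ∀ i, IsConj t (w i) := fun i => by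
    fin_cases i
    exacts [hb', hbt']
  have hprod : ∀ i j, u i * w j = a * b ∨ u i * w j = a * b * t := fun i j => by
    fin_cases i <;> fin_cases j
    · exact Or.inl rfl
    · exact Or.inr (mul_assoc _ _ _).symm
    · right
      show a * t * b = _
      rw [mul_assoc, ← hbt, ← mul_assoc]
    · left
      show a * t * (b * t) = _
      rw [mul_assoc, ← mul_assoc t, ← hbt, mul_assoc b, htt, mul_one]
  let f : Fin 2 × Fin 2 → Pr a t t := fun ij => ⟨(u ij.1, w ij.2), hu _, hw _, by
    refine ⟨2, ?_⟩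
    show (u ij.1 * w ij.2) ^ (2 : ℤ) = t
    rw [zpow_two]
    rcases hprod ij.1 ij.2 with e | e <;> rw [e]
    · exact hsq
    · rw [(show Commute (a * b) t from hab).symm.mul_mul_mul_comm (a * b) t, hsq, htt, mul_one]⟩
  have hinj : Function.Injective f := by
    rintro ⟨i, j⟩ ⟨i', j'⟩ e
    have e1 : u i = u i' := congrArg (fun q : Pr a t t => q.1.1) e
    have e2 : w j = w j' := congrArg (fun q : Pr a t t => q.1.2) e
    have na : a ≠ a * t := fun e => CfsgLib.Invol.ne_one hB.ht (mul_eq_left.1 e.symm)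
    have nb : b ≠ b * t := fun e => CfsgLib.Invol.ne_one hB.ht (mul_eq_left.1 e.symm)
    fin_cases i <;> fin_cases i' <;> fin_cases j <;> fin_cases j' <;> first
      | rfl | exact absurd e1 na | exact absurd e1.symm na | exact absurd e2 nb | exact absurd e2.symm nb
  have hsurj : Function.Surjective f := by
    rintro ⟨⟨x, y⟩, hx, hy, k, hk⟩
    have hx2 : orderOf x = 2 := (orderOf_isConj hx).trans hB.ha
    have hy2 : orderOf y = 2 := (orderOf_isConj hy).trans hB.ht
    have hZx : Z x := (hB.kinds.iff_of_conj hx).1 hB.hZa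
    have hZy : ¬ Z y := fun hh => hB.hZt ((hB.kinds.iff_of_conj hy).2 hh)
    obtain ⟨hxt, hyt⟩ := not_even_fix hx2 hy2 hB.ht hk
    obtain ⟨i, rfl⟩ : ∃ i, u i = x := by
      rcases hB.cent_t hbt hb2 hb hxt with e | e | e | e | e | e | e | e
      · exact absurd e (CfsgLib.Invol.ne_one hx2)
      · exact absurd (e ▸ hZx) hB.hZt
      · exact ⟨0, e.symm⟩
      · exact ⟨1, e.symm⟩
      · exact absurd (e ▸ hZx) hZb
      · exact absurd ((hB.kinds.iff_of_conj hbt').2 (e ▸ hZx)) hB.hZt
      · exact absurd (e ▸ hx2) hnab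
      · exact absurd (e ▸ hx2) hnabt
    obtain ⟨j, rfl⟩ : ∃ j, w j = y := by
      rcases hB.cent_t hbt hb2 hb hyt with e | e | e | e | e | e | e | e
      · exact absurd e (CfsgLib.Invol.ne_one hy2)
      · exfalso
        subst e
        have := eq_of_mem_zpowers_invol (mul_orderOf_two hx2 hy2 hxt fun e => hZy (e ▸ hZx)) hy2 ⟨k, hk⟩
        exact CfsgLib.Invol.ne_one hx2 (mul_eq_right.1 this.symm)
      · exact absurd (e ▸ hB.hZa) hZy
      · exact absurd (e ▸ (hB.kinds.iff_of_conj hB.conj_at).1 hB.hZa) hZy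
      · exact ⟨0, e.symm⟩
      · exact ⟨1, e.symm⟩
      · exact absurd (e ▸ hy2) hnab
      · exact absurd (e ▸ hy2) hnabt
    exact ⟨(i, j), rfl⟩
  rw [← Nat.card_congr (Equiv.ofBijective f ⟨hinj, hsurj⟩)]
  simp

/-- A class of `Z`-involutions other than that of `a` gets no pairs. -/
theorem Base.card_pairs_other (hB : Base Z a t p) {b : X} (hb2 : orderOf b = 2) (hZb : Z b)
    (hne : ¬ IsConj a b) : Nat.card (Pr a t b) = 0 := by
  haveI : IsEmpty (Pr a t b) := by
    refine ⟨?_⟩
    rintro ⟨⟨x, y⟩, hx, hy, k, hk⟩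
    have hx2 : orderOf x = 2 := (orderOf_isConj hx).trans hB.ha
    have hy2 : orderOf y = 2 := (orderOf_isConj hy).trans hB.ht
    have hZx : Z x := (hB.kinds.iff_of_conj hx).1 hB.hZa
    obtain ⟨hxb, hyb⟩ := not_even_fix hx2 hy2 hb2 hk
    have hZy : ¬ Z y := fun hh => hB.hZt ((hB.kinds.iff_of_conj hy).2 hh)
    by_cases hxy : x * y = y * x
    · rcases hB.kinds.four hx2 hZx hy2 hZy hxy hxb.symm hyb.symm with e | e | e | e
      · exact CfsgLib.Invol.ne_one hb2 e
      · exact hne (e ▸ hx)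
      · exact hZy (e ▸ hZb)
      · obtain ⟨g, _, hg⟩ := hB.kinds.shift hx2 hZx hy2 hZy hxy
        exact hne (hx.trans (isConj_iff.2 ⟨g, hg.trans e.symm⟩))
    · -- `x` lies in a four group with some involution of the second kind inside `C(b)`
      obtain ⟨r, hr2, hZr, hrb, hrx⟩ : ∃ r, orderOf r = 2 ∧ ¬ Z r ∧ r * b = b * r ∧ r * x = x * r := by
        obtain ⟨g, hg⟩ := hB.kinds.exists_into hy2 hZy hb2
        set C := centralizer ({b} : Set X) with hCdef
        have hC : Nat.card C = 12 := hB.kinds.twelve b hb2 hZb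
        have hyC : y ∈ C := mem_cent.2 hyb
        have hxC : x ∈ C := mem_cent.2 hxb
        have hS : ∀ K : Subgroup X, K = centralizer ({b} : Set X) ⊓ centralizer ({y} : Set X) →
            Nat.card (K.subgroupOf C) = 4 := by
          intro K hK
          rw [Nat.card_congr (subgroupOfEquivOfLe (hK.le.trans inf_le_left)).toEquiv]
          have hd : Nat.card K ∣ Nat.gcd 12 8 := Nat.dvd_gcd (hC ▸ card_dvd_of_le (hK.le.trans inf_le_left))
            (hB.kinds.eight y hy2 hZy ▸ card_dvd_of_le (hK.le.trans inf_le_right))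
          obtain ⟨r', hr', e'⟩ := (Nat.dvd_prime_pow Nat.prime_two).1 (show Nat.card K ∣ 2 ^ 2 by simpa using hd)
          have h3 : 3 ≤ Nat.card K := by
            have hmb : b ∈ K := hK ▸ ⟨mem_cent.2 rfl, mem_cent.2 hyb.symm⟩
            have hmy : y ∈ K := hK ▸ ⟨hyC, mem_cent.2 rfl⟩
            let f : Fin 3 → K := ![1, ⟨b, hmb⟩, ⟨y, hmy⟩]
            have hf : Function.Injective f := by
              intro i j hij
              have hv : ∀ l, ((f l : K) : X) = ![1, b, y] l := fun l => by fin_cases l <;> rfl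
              have hij' : (![1, b, y] : Fin 3 → X) i = ![1, b, y] j := by rw [← hv, ← hv, hij]
              have n1 := CfsgLib.Invol.ne_one hb2
              have n2 := CfsgLib.Invol.ne_one hy2
              have n3 : b ≠ y := fun e => hZy (e ▸ hZb)
              fin_cases i <;> fin_cases j <;> first
                | rfl
                | exact absurd hij' n1 | exact absurd hij'.symm n1
                | exact absurd hij' n2 | exact absurd hij'.symm n2
                | exact absurd hij' n3 | exact absurd hij'.symm n3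
            simpa using Nat.card_le_card_of_injective f hf
          interval_cases r' <;> omega
        set K := (centralizer ({b} : Set X) ⊓ centralizer ({y} : Set X))
        have h4 := hS K rfl
        obtain ⟨Q, hQ⟩ := (IsPGroup.of_card (n := 2) (by rw [h4]; norm_num) :
          IsPGroup 2 ↥(K.subgroupOf C)).exists_le_sylow
        have hQ4 : Nat.card (Q : Subgroup C) = 4 := by
          rw [Q.card_eq_multiplicity, hC]
          rw [show (12 : ℕ) = 2 ^ 2 * 3 from rfl, Nat.factorization_mul (by norm_num) (by norm_num)]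
          rw [Finsupp.add_apply, Nat.Prime.factorization_pow Nat.prime_two, Nat.Prime.factorization Nat.prime_three]
          simp
        have hQe : (Q : Subgroup C) = K.subgroupOf C := (eq_of_le_of_card_ge hQ (by rw [h4, hQ4])).symm
        obtain ⟨R, hR⟩ := (IsPGroup.of_card (n := 1) (by rw [Nat.card_zpowers, ← Subgroup.orderOf_coe, hx2, pow_one]) :
          IsPGroup 2 ↥(zpowers (⟨x, hxC⟩ : C))).exists_le_sylow
        obtain ⟨c, hc⟩ := MulAction.exists_smul_eq C Q R
        have hxR : (⟨x, hxC⟩ : C) ∈ (R : Subgroup C) := hR (mem_zpowers _)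
        rw [← hc, Sylow.coe_subgroup_smul, hQe] at hxR
        obtain ⟨q, hq, hqe⟩ := hxR
        have hqy : ((q : C) : X) * y = y * ((q : C) : X) := mem_cent.1 (mem_subgroupOf.1 hq).2
        refine ⟨(c : X) * y * (c : X)⁻¹, by rw [orderOf_conj', hy2],
          fun hh => hZy ((hB.kinds.iff_of_conj (isConj_iff.2 ⟨(c : X), rfl⟩)).2 hh), ?_, ?_⟩
        · exact mem_cent.1 (mul_mem (mul_mem c.2 hyC) (inv_mem c.2))
        · have hxe : x = (c : X) * ((q : C) : X) * (c : X)⁻¹ := (congrArg Subtype.val hqe).symm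
          rw [hxe]
          calc (c : X) * y * (c : X)⁻¹ * ((c : X) * ((q : C) : X) * (c : X)⁻¹)
              = (c : X) * (y * ((q : C) : X)) * (c : X)⁻¹ := by group
            _ = (c : X) * (((q : C) : X) * y) * (c : X)⁻¹ := by rw [hqy]
            _ = _ := by group
      rcases hB.kinds.four hx2 hZx hr2 hZr hrx.symm hxb.symm hrb.symm with e | e | e | e
      · exact CfsgLib.Invol.ne_one hb2 e
      · exact hne (e ▸ hx)
      · exact hZr (e ▸ hZb)
      · obtain ⟨g, _, hg⟩ := hB.kinds.shift hx2 hZx hr2 hZr hrx.symm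
        exact hne (hx.trans (isConj_iff.2 ⟨g, hg.trans e.symm⟩))
  exact Nat.card_of_isEmpty

/-- The order. -/
theorem Base.card_eq (hB : Base Z a t p) : Nat.card X = 120 := by
  classical
  have hK := hB.kinds
  have hnc : ¬ IsConj a t := fun h => hB.hZt ((hK.iff_of_conj h).1 hB.hZa)
  have hN : ∀ u, orderOf u = 2 → ¬ Z u → IsConj t u := fun u hu hZu =>
    hK.isConj_non hB.ha hB.hZa hB.ht hB.hZt hu hZu
  have h72 : Nat.card X ≠ 72 := by
    intro h72
    haveI : Fact (Nat.Prime 3) := ⟨Nat.prime_three⟩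
    obtain ⟨S⟩ : Nonempty (Sylow 3 X) := Sylow.nonempty
    have hS : Nat.card (S : Subgroup X) = 9 := by
      rw [S.card_eq_multiplicity, h72, show (72 : ℕ) = 3 ^ 2 * 2 ^ 3 from rfl,
        Nat.factorization_mul (by norm_num) (by norm_num)]
      rw [Finsupp.add_apply, Nat.Prime.factorization_pow Nat.prime_three, Nat.Prime.factorization_pow Nat.prime_two]
      simp
    obtain ⟨⟨q, hq⟩, hqo⟩ := exists_prime_orderOf_dvd_card' (G := (S : Subgroup X)) 3 (hS ▸ by norm_num)
    rw [Subgroup.orderOf_mk] at hqo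
    refine hK.nine q hqo (hS ▸ card_dvd_of_le fun g hg => mem_cent.2 ?_)
    haveI := IsPGroup.isMulCommutative_of_card_eq_prime_sq (p := 3) (G := ↥(S : Subgroup X)) (by rw [hS]; rfl)
    exact congrArg Subtype.val (mul_comm' (⟨g, hg⟩ : ↥(S : Subgroup X)) ⟨q, hq⟩)
  by_cases hall : ∀ u, orderOf u = 2 → Z u → IsConj a u
  · have h := CfsgLib.BrauerFowler.order_formula hB.ha hB.ht hnc fun u hu => by
      by_cases hZu : Z u
      · exact Or.inl (hall u hu hZu)
      · exact Or.inr (hN u hu hZu)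
    rw [hK.twelve a hB.ha hB.hZa, hK.eight t hB.ht hB.hZt] at h
    change Nat.card X = 8 * Nat.card (Pr a t a) + 12 * Nat.card (Pr a t t) at h
    rw [hB.card_pairs_a] at h
    by_cases hex : ∀ u, orderOf u = 2 → ¬ Z u → u * t = t * u → u = t
    · rw [hB.card_pairs_t_zero hex] at h
      exact absurd h h72
    · push_neg at hex
      obtain ⟨b, hb2, hZb, hbt, hbne⟩ := hex
      rw [hB.card_pairs_t_four hbt hb2 hZb hbne] at h
      exact h
  · exfalso
    push_neg at hall
    obtain ⟨b0, hb0, hZb0, hne0⟩ := hall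
    obtain ⟨g, hg⟩ := hK.exists_into hB.ht hB.hZt hb0
    set b := g * b0 * g⁻¹ with hbdef
    have hb2 : orderOf b = 2 := by rw [hbdef, orderOf_conj', hb0]
    have hcb : IsConj b0 b := isConj_iff.2 ⟨g, rfl⟩
    have hZb : Z b := (hK.iff_of_conj hcb).1 hZb0
    have hne : ¬ IsConj a b := fun h => hne0 (h.trans hcb.symm)
    have hb : b ≠ t ∧ b ≠ a ∧ b ≠ a * t :=
      ⟨fun e => hB.hZt (e ▸ hZb), fun e => hne (e ▸ IsConj.refl a), fun e => hne (e ▸ hB.conj_at)⟩
    obtain ⟨htw, -, hnab, hnabt⟩ := hB.twist hg hb2 hb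
    have hex : ∀ u, orderOf u = 2 → ¬ Z u → u * t = t * u → u = t := by
      intro u hu hZu hut
      rcases hB.cent_t hg hb2 hb hut with e | e | e | e | e | e | e | e
      · exact absurd e (CfsgLib.Invol.ne_one hu)
      · exact e
      · exact absurd (e ▸ hB.hZa) hZu
      · exact absurd (e ▸ (hK.iff_of_conj hB.conj_at).1 hB.hZa) hZu
      · exact absurd (e ▸ hZb) hZu
      · exact absurd (e ▸ (hK.iff_of_conj (isConj_iff.2 ⟨a, htw⟩)).1 hZb) hZu
      · exact absurd (e ▸ hu) hnab
      · exact absurd (e ▸ hu) hnabt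
    have hrep : ∀ u : X, orderOf u = 2 → IsConj u t ∨ IsConj u a ∨ IsConj u b := by
      intro u hu
      by_cases hZu : Z u
      · obtain ⟨g', hg'⟩ := hK.exists_into hB.ht hB.hZt hu
        have hc : IsConj u (g' * u * g'⁻¹) := isConj_iff.2 ⟨g', rfl⟩
        have hu' : orderOf (g' * u * g'⁻¹) = 2 := by rw [orderOf_conj', hu]
        rcases hB.cent_t hg hb2 hb hg' with e | e | e | e | e | e | e | e
        · exact absurd e (CfsgLib.Invol.ne_one hu')
        · exact Or.inl (e ▸ hc)
        · exact Or.inr (Or.inl (e ▸ hc))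
        · exact Or.inr (Or.inl ((e ▸ hc).trans hB.conj_at.symm))
        · exact Or.inr (Or.inr (e ▸ hc))
        · exact Or.inr (Or.inr ((e ▸ hc).trans (isConj_iff.2 ⟨a, htw⟩).symm))
        · exact absurd (e ▸ hu') hnab
        · exact absurd (e ▸ hu') hnabt
      · exact Or.inl (hN u hu hZu).symm
    have htb : ¬ IsConj t b := fun h => hB.hZt ((hK.iff_of_conj h).2 hZb)
    have hW : ∀ w ∈ ({t, a, b} : Finset X), orderOf w = 2 := by
      simp [hB.ht, hB.ha, hb2]
    have h := CfsgLib.Kinf.order_formula_general a t hB.ha hB.ht hnc {t, a, b} hW fun u hu => by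
      have hd : ∀ w ∈ ({t, a, b} : Finset X), ∀ w' ∈ ({t, a, b} : Finset X), IsConj w w' → w = w' := by
        intro w hw w' hw' hc
        simp only [Finset.mem_insert, Finset.mem_singleton] at hw hw'
        rcases hw with rfl | rfl | rfl <;> rcases hw' with rfl | rfl | rfl <;> first
          | rfl | exact absurd hc.symm hnc | exact absurd hc hnc | exact absurd hc htb
          | exact absurd hc.symm htb | exact absurd hc hne | exact absurd hc.symm hne
      obtain ⟨w, hw, hc⟩ : ∃ w ∈ ({t, a, b} : Finset X), IsConj u w := by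
        rcases hrep u hu with h | h | h
        exacts [⟨t, by simp, h⟩, ⟨a, by simp, h⟩, ⟨b, by simp, h⟩]
      exact ⟨w, hw, hc, fun w' hw' hc' => hd w' hw' w hw (hc'.symm.trans hc)⟩
    have n1 : t ∉ ({a, b} : Finset X) := by
      simp only [Finset.mem_insert, Finset.mem_singleton]
      rintro (e | e)
      exacts [hB.a_ne e.symm, hb.1 e.symm]
    have n2 : a ∉ ({b} : Finset X) := by simpa using hb.2.1.symm
    rw [Finset.sum_insert n1, Finset.sum_insert n2, Finset.sum_singleton] at h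
    change (Nat.card X : ℚ) = _ * _ * ((Nat.card (Pr a t t) : ℚ) / _ + ((Nat.card (Pr a t a) : ℚ) / _ +
      (Nat.card (Pr a t b) : ℚ) / _)) at h
    rw [hB.card_pairs_a, hB.card_pairs_t_zero hex, hB.card_pairs_other hb2 hZb hne,
      hK.twelve a hB.ha hB.hZa, hK.eight t hB.ht hB.hZt, hK.twelve b hb2 hZb] at h
    exact h72 (by exact_mod_cast (h.trans (by norm_num) : (Nat.card X : ℚ) = 72))

theorem card_eq (h : Kinds Z) : Nat.card X = 120 := by
  obtain ⟨a, t, p, hB⟩ := exists_base h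
  exact hB.card_eq

end CfsgLib.J4Seven
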