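import Cfsg.Agent.J4Local.Basics

/-!
The facts about a group of Janko-four type used in the determination of the centraliser of an element
of order seven.
-/

set_option autoImplicit false

namespace CfsgLib.J4Seven

open Cfsg Subgroup CfsgLib.J4Local

variable {G : Type*} [Group G]

/-- An involution outside the class of `z` lies in an elementary group of order `2^11` whose normaliser
splits with complement `M24`, and its centraliser there is a split extension by `Aut M22`. -/
def SplitAt (t : G) (V K L : Subgroup G) : Prop :=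
  t ∈ V ∧ Cfsg.IsElementaryAbelian 2 V ∧ Nat.card V = 2 ^ 11 ∧
  centralizer ({t} : Set G) ≤ normalizer (V : Set G) ∧
  K ⊓ V = ⊥ ∧ K ⊔ V = centralizer ({t} : Set G) ∧ Nonempty (K ≃* MulAut ↥Spor.M22) ∧
  L ≤ normalizer (V : Set G) ∧ L ⊓ V = ⊥ ∧ L ⊔ V = normalizer (V : Set G) ∧ Spor.IsoM24 L

/-- The needed facts. -/
structure Inputs (z : G) (P : Subgroup G) : Prop where
  type : IsOfJankoFourTypeWith z P
  normP : normalizer (P : Set G) ≤ cH z
  three : ∀ x y : G, orderOf x = 3 → orderOf y = 3 → IsConj x y
  other : ∃ t : G, orderOf t = 2 ∧ ¬ IsConj z t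
  split : ∀ t : G, orderOf t = 2 → ¬ IsConj z t → ∃ V K L : Subgroup G, SplitAt t V K L

end CfsgLib.J4Seven
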