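import Cfsg.Agent.Kinf.OrderFormula

/-!
Groups with two kinds of involutions whose centralisers have orders 12 and 8 and no element of
order 3 centralised by a group of order 9: the order is 120.
-/

set_option autoImplicit false
set_option linter.style.haveILetI false
set_option linter.unusedSectionVars false

namespace CfsgLib.J4Seven

open Subgroup

variable {X : Type*} [Group X] [Finite X]

/-- The two kinds of involutions. -/
structure Kinds (Z : X → Prop) : Prop where
  conj : ∀ g u : X, Z u → Z (g * u * g⁻¹)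
  exZ : ∃ u, orderOf u = 2 ∧ Z u
  exN : ∃ u, orderOf u = 2 ∧ ¬ Z u
  twelve : ∀ u, orderOf u = 2 → Z u → Nat.card (centralizer ({u} : Set X)) = 12
  eight : ∀ u, orderOf u = 2 → ¬ Z u → Nat.card (centralizer ({u} : Set X)) = 8
  nine : ∀ p : X, orderOf p = 3 → ¬ 9 ∣ Nat.card (centralizer ({p} : Set X))

variable {Z : X → Prop}

theorem mem_cent {u g : X} : g ∈ centralizer ({u} : Set X) ↔ g * u = u * g :=
  mem_centralizer_singleton_iff

theorem orderOf_conj' (g u : X) : orderOf (g * u * g⁻¹) = orderOf u := by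
  simpa using orderOf_injective (MulAut.conj g).toMonoidHom (MulAut.conj g).injective u

theorem inv_of_two {u : X} (h : orderOf u = 2) : u⁻¹ = u :=
  inv_eq_of_mul_eq_one_right (CfsgLib.Invol.mul_self_eq_one h)

theorem Kinds.iff_of_conj (h : Kinds Z) {u v : X} (huv : IsConj u v) : Z u ↔ Z v := by
  obtain ⟨g, rfl⟩ := isConj_iff.1 huv
  refine ⟨h.conj g u, fun hv => ?_⟩
  have := h.conj g⁻¹ _ hv
  rwa [inv_inv, ← mul_assoc, ← mul_assoc, inv_mul_cancel, one_mul, mul_assoc, inv_mul_cancel, mul_one] at this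

theorem orderOf_isConj {u v : X} (huv : IsConj u v) : orderOf v = orderOf u := by
  obtain ⟨g, rfl⟩ := isConj_iff.1 huv
  rw [orderOf_conj']

theorem mul_orderOf_two {u v : X} (hu : orderOf u = 2) (hv : orderOf v = 2) (hc : u * v = v * u) (hne : u ≠ v) :
    orderOf (u * v) = 2 := by
  refine orderOf_eq_prime ?_ fun h => hne ?_
  · rw [sq, mul_assoc, ← mul_assoc v, ← hc, mul_assoc u v v, CfsgLib.Invol.mul_self_eq_one hv, mul_one,
      CfsgLib.Invol.mul_self_eq_one hu]
  · rw [eq_inv_of_mul_eq_one_left h, inv_of_two hv]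

theorem not_even_fix {y : X} {x : X} {k : ℤ} {w : X} (hx : orderOf x = 2) (hy : orderOf y = 2) (hw : orderOf w = 2)
    (hk : (x * y) ^ k = w) : x * w = w * x ∧ y * w = w * y := by
  have h1 : x * (x * y) * x⁻¹ = (x * y)⁻¹ := by
    rw [mul_inv_rev, inv_of_two hx, inv_of_two hy, ← mul_assoc, CfsgLib.Invol.mul_self_eq_one hx, one_mul]
  have h2 : y * (x * y) * y⁻¹ = (x * y)⁻¹ := by
    rw [mul_inv_rev, inv_of_two hx, inv_of_two hy, mul_assoc, mul_assoc x, CfsgLib.Invol.mul_self_eq_one hy, mul_one]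
  refine ⟨?_, ?_⟩
  · have h3 : x * w * x⁻¹ = w := by
      rw [← hk, ← conj_zpow, h1, inv_zpow, hk, inv_of_two hw]
    calc x * w = x * w * x⁻¹ * x := by group
      _ = w * x := by rw [h3]
  · have h3 : y * w * y⁻¹ = w := by
      rw [← hk, ← conj_zpow, h2, inv_zpow, hk, inv_of_two hw]
    calc y * w = y * w * y⁻¹ * y := by group
      _ = w * y := by rw [h3]

theorem eq_of_mem_zpowers_invol {u w : X} (hu : orderOf u = 2) (hw : orderOf w = 2) (h : w ∈ zpowers u) : w = u :=
  CfsgLib.Kinf.invol_unique hw hu h (mem_zpowers u)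

/-- A non-`Z` involution has a Sylow 2-subgroup as centraliser. -/
theorem Kinds.sylow (h : Kinds Z) {r : X} (hr : orderOf r = 2) (hZ : ¬ Z r) :
    ∃ S : Sylow 2 X, (S : Subgroup X) = centralizer ({r} : Set X) := by
  have h8 := h.eight r hr hZ
  have hp : IsPGroup 2 ↥(centralizer ({r} : Set X)) := IsPGroup.of_card (n := 3) (by rw [h8]; norm_num)
  obtain ⟨S, hS⟩ := hp.exists_le_sylow
  refine ⟨S, (eq_of_le_of_card_ge hS ?_).symm⟩
  haveI : Nontrivial ↥(S : Subgroup X) :=
    (nontrivial_iff_ne_bot _).2 fun he => by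
      have hle := hS.trans he.le
      have : r ∈ (⊥ : Subgroup X) := hle (mem_cent.2 rfl)
      rw [mem_bot.1 this, orderOf_one] at hr; omega
  obtain ⟨u, hu, hu1⟩ := (nontrivial_iff_exists_ne_one _).1 S.2.center_nontrivial
  obtain ⟨k, hk⟩ := (IsPGroup.iff_orderOf.1 S.2) u
  have hk1 : k ≠ 0 := fun he => hu1 (by rwa [he, pow_zero, orderOf_eq_one_iff] at hk)
  set v : ↥(S : Subgroup X) := u ^ 2 ^ (k - 1) with hv
  have hv2 : orderOf (v : X) = 2 := by
    rw [Subgroup.orderOf_coe, hv, orderOf_pow' _ (pow_ne_zero _ two_ne_zero), hk,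
      Nat.gcd_eq_right (pow_dvd_pow 2 (Nat.sub_le k 1)), Nat.pow_div (Nat.sub_le k 1) two_pos,
      show k - (k - 1) = 1 by omega, pow_one]
  have hvc : v ∈ center ↥(S : Subgroup X) := pow_mem hu _
  have hle : (S : Subgroup X) ≤ centralizer ({(v : X)} : Set X) := fun g hg =>
    mem_cent.2 (congrArg Subtype.val (mem_center_iff.1 hvc ⟨g, hg⟩))
  have hd := card_dvd_of_le hle
  obtain ⟨j, hj⟩ := (IsPGroup.iff_card.1 S.2)
  rw [h8]
  by_cases hZv : Z v
  · rw [h.twelve _ hv2 hZv, hj] at hd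
    exfalso
    have h8d : 2 ^ 3 ∣ 2 ^ j := by
      have := card_dvd_of_le hS
      rwa [h8, hj] at this
    have : (8 : ℕ) ∣ 12 := (by simpa using h8d.trans hd)
    omega
  · rw [h.eight _ hv2 hZv] at hd
    exact Nat.le_of_dvd (by norm_num) hd

theorem Kinds.exists_into (h : Kinds Z) {r u : X} (hr : orderOf r = 2) (hZr : ¬ Z r) (hu : orderOf u = 2) :
    ∃ g : X, (g * u * g⁻¹) * r = r * (g * u * g⁻¹) := by
  obtain ⟨S, hS⟩ := h.sylow hr hZr
  obtain ⟨T, hT⟩ := (IsPGroup.of_card (n := 1) (by rw [Nat.card_zpowers, hu, pow_one]) :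
    IsPGroup 2 ↥(zpowers u)).exists_le_sylow
  obtain ⟨g, hg⟩ := MulAction.exists_smul_eq X T S
  refine ⟨g, mem_cent.1 ?_⟩
  rw [← hS, ← hg, Sylow.coe_subgroup_smul]
  exact ⟨u, hT (mem_zpowers u), rfl⟩

/-- A `Z`-involution commuting with another involution of the other kind: the four elements. -/
theorem Kinds.four (h : Kinds Z) {c r : X} (hc : orderOf c = 2) (hZc : Z c) (hr : orderOf r = 2) (hZr : ¬ Z r)
    (hcr : c * r = r * c) {g : X} (hgc : g * c = c * g) (hgr : g * r = r * g) :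
    g = 1 ∨ g = c ∨ g = r ∨ g = c * r := by
  classical
  haveI := Fintype.ofFinite X
  set K := centralizer ({c} : Set X) ⊓ centralizer ({r} : Set X)
  have hd : Nat.card K ∣ 4 := by
    have h1 : Nat.card K ∣ Nat.gcd 12 8 :=
      Nat.dvd_gcd (h.twelve c hc hZc ▸ card_dvd_of_le inf_le_left) (h.eight r hr hZr ▸ card_dvd_of_le inf_le_right)
    simpa using h1
  have hne : c ≠ r := fun e => hZr (e ▸ hZc)
  have hc1 : c ≠ 1 := CfsgLib.Invol.ne_one hc
  have hr1 : r ≠ 1 := CfsgLib.Invol.ne_one hr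
  have hcr1 : c * r ≠ 1 := CfsgLib.Invol.ne_one (mul_orderOf_two hc hr hcr hne)
  have hmem : ∀ x ∈ ({1, c, r, c * r} : Finset X), x ∈ K := by
    intro x hx
    simp only [Finset.mem_insert, Finset.mem_singleton] at hx
    rcases hx with rfl | rfl | rfl | rfl
    · exact one_mem _
    · exact ⟨mem_cent.2 rfl, mem_cent.2 hcr⟩
    · exact ⟨mem_cent.2 hcr.symm, mem_cent.2 rfl⟩
    · exact mul_mem (⟨mem_cent.2 rfl, mem_cent.2 hcr⟩ : c ∈ K) ⟨mem_cent.2 hcr.symm, mem_cent.2 rfl⟩
  have hcard : ({1, c, r, c * r} : Finset X).card = 4 := by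
    have e1 : c ≠ c * r := fun e => hr1 (mul_eq_left.1 e.symm)
    have e2 : r ≠ c * r := fun e => hc1 (mul_eq_right.1 e.symm)
    rw [Finset.card_insert_of_notMem (by simp [hc1.symm, hr1.symm, hcr1.symm]),
      Finset.card_insert_of_notMem (by simp [hne, e1]), Finset.card_pair e2]
  have heq : ({1, c, r, c * r} : Finset X) = (K : Set X).toFinset := by
    refine Finset.eq_of_subset_of_card_le (fun x hx => by simpa using hmem x hx) ?_
    rw [hcard, ← Nat.card_eq_card_toFinset]
    exact Nat.le_of_dvd (by norm_num) hd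
  have hg : g ∈ ({1, c, r, c * r} : Finset X) := by
    rw [heq, Set.mem_toFinset]; exact ⟨mem_cent.2 hgc, mem_cent.2 hgr⟩
  simpa using hg

/-- Multiplying by a commuting involution of the other kind stays in the class. -/
theorem Kinds.shift (h : Kinds Z) {c r : X} (hc : orderOf c = 2) (hZc : Z c) (hr : orderOf r = 2) (hZr : ¬ Z r)
    (hcr : c * r = r * c) : ∃ x : X, x * r = r * x ∧ x * c * x⁻¹ = c * r := by
  have hex : ∃ x : X, x * r = r * x ∧ x * c ≠ c * x := by
    by_contra hh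
    push_neg at hh
    have hle : centralizer ({r} : Set X) ≤ centralizer ({c} : Set X) := fun g hg => mem_cent.2 (hh g (mem_cent.1 hg))
    have hd := card_dvd_of_le hle
    rw [h.eight r hr hZr, h.twelve c hc hZc] at hd
    omega
  obtain ⟨x, hxr, hxc⟩ := hex
  refine ⟨x, hxr, ?_⟩
  set y := x * c * x⁻¹ with hy
  have hyr : y * r = r * y := by
    have h1 : x⁻¹ * r = r * x⁻¹ := ((Commute.inv_left (show Commute x r from hxr))).eq
    calc y * r = x * c * (x⁻¹ * r) := by rw [hy]; group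
      _ = x * (c * r) * x⁻¹ := by rw [h1]; group
      _ = (x * r) * c * x⁻¹ := by rw [hcr]; group
      _ = r * y := by rw [hxr, hy]; group
  have hy2 : orderOf y = 2 := by rw [hy, orderOf_conj', hc]
  have hyZ : Z y := h.conj x c hZc
  have hyc : y * c = c * y := by
    have h8 := h.eight r hr hZr
    set T := centralizer ({r} : Set X)
    set K := (centralizer ({c} : Set X)).subgroupOf T
    have hKi : K.index = 2 := by
      have h1 := K.card_mul_index
      rw [Nat.card_congr (Subgroup.subgroupOfEquivOfLe (le_refl T)).toEquiv.symm] at h1 <;> try rfl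
      have hK4 : Nat.card K = 4 := by
        have hd : Nat.card K ∣ 4 := by
          have h2 : Nat.card K ∣ Nat.gcd 12 8 := Nat.dvd_gcd (by
            rw [← h.twelve c hc hZc]; exact card_comap_dvd_of_injective _ _ T.subtype_injective)
            (h8 ▸ K.card_subgroup_dvd_card)
          simpa using h2
        have hne : c ≠ r := fun e => hZr (e ▸ hZc)
        have ha : (⟨c, mem_cent.2 hcr⟩ : T) ∈ K := mem_subgroupOf.2 (mem_cent.2 rfl)
        have hb : (⟨r, mem_cent.2 rfl⟩ : T) ∈ K := mem_subgroupOf.2 (mem_cent.2 hcr.symm)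
        have h3 : 3 ≤ Nat.card K := by
          classical
          haveI := Fintype.ofFinite X
          let f : Fin 3 → K := ![1, ⟨_, ha⟩, ⟨_, hb⟩]
          have hf : Function.Injective f := by
            intro i j hij
            have hij' : (![1, c, r] : Fin 3 → X) i = ![1, c, r] j := by
              have hv : ∀ l, (((f l : K) : T) : X) = ![1, c, r] l := fun l => by fin_cases l <;> rfl
              rw [← hv, ← hv, hij]
            have n1 := CfsgLib.Invol.ne_one hc
            have n2 := CfsgLib.Invol.ne_one hr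
            fin_cases i <;> fin_cases j <;> first
              | rfl
              | exact absurd hij' n1 | exact absurd hij'.symm n1
              | exact absurd hij' n2 | exact absurd hij'.symm n2
              | exact absurd hij' hne | exact absurd hij'.symm hne
          simpa using Nat.card_le_card_of_injective f hf
        rcases (Nat.dvd_prime_pow Nat.prime_two).1 (show Nat.card K ∣ 2 ^ 2 by simpa using hd) with ⟨i, hi, e⟩
        interval_cases i <;> omega
      have h1' := K.card_mul_index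
      rw [hK4, h8] at h1'
      omega
    haveI := Subgroup.normal_of_index_eq_two hKi
    have hcK : (⟨c, mem_cent.2 hcr⟩ : T) ∈ K := mem_subgroupOf.2 (mem_cent.2 rfl)
    exact mem_cent.1 (mem_subgroupOf.1 (this.conj_mem _ hcK ⟨x, mem_cent.2 hxr⟩))
  rcases h.four hc hZc hr hZr hcr hyc hyr with e | e | e | e
  · exact absurd e (CfsgLib.Invol.ne_one hy2)
  · exact absurd (by rw [hy] at e; calc x * c = x * c * x⁻¹ * x := by group
      _ = c * x := by rw [e]) hxc
  · exact absurd (e ▸ hyZ) hZr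
  · exact e

/-- All involutions of the second kind are conjugate. -/
theorem Kinds.isConj_non (h : Kinds Z) {a u r : X} (ha : orderOf a = 2) (hZa : Z a) (hu : orderOf u = 2)
    (hZu : ¬ Z u) (hr : orderOf r = 2) (hZr : ¬ Z r) : IsConj u r := by
  obtain ⟨S, hS⟩ := h.sylow hu hZu
  obtain ⟨T, hT⟩ := h.sylow hr hZr
  obtain ⟨g, hg⟩ := MulAction.exists_smul_eq X S T
  refine isConj_iff.2 ⟨g, ?_⟩
  set v := g * u * g⁻¹ with hv
  have hv2 : orderOf v = 2 := by rw [hv, orderOf_conj', hu]
  have hZv : ¬ Z v := fun hh => hZu ((h.iff_of_conj (isConj_iff.2 ⟨g, rfl⟩)).2 hh)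
  have hcen : ∀ x ∈ centralizer ({r} : Set X), x * v = v * x := by
    intro x hx
    rw [← hT, ← hg, Sylow.coe_subgroup_smul, hS] at hx
    obtain ⟨y, hy, rfl⟩ := hx
    have hy' := mem_cent.1 hy
    show (g * y * g⁻¹) * v = v * (g * y * g⁻¹)
    rw [hv]
    calc g * y * g⁻¹ * (g * u * g⁻¹) = g * (y * u) * g⁻¹ := by group
      _ = g * (u * y) * g⁻¹ := by rw [hy']
      _ = _ := by group
  obtain ⟨g', hg'⟩ := h.exists_into hr hZr ha
  set c := g' * a * g'⁻¹
  have hc : orderOf c = 2 := by rw [orderOf_conj', ha]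
  have hZc : Z c := h.conj g' a hZa
  have hvr : v * r = r * v := (hcen r (mem_cent.2 rfl)).symm
  have hvc : v * c = c * v := (hcen c (mem_cent.2 hg')).symm
  rcases h.four hc hZc hr hZr hg' hvc hvr with e | e | e | e
  · exact absurd e (CfsgLib.Invol.ne_one hv2)
  · exact absurd (e ▸ hZc) hZv
  · exact e
  · obtain ⟨x, _, hx⟩ := h.shift hc hZc hr hZr hg'
    exact absurd (show Z v by rw [e, ← hx]; exact h.conj x c hZc) hZv

variable (Z) in
/-- The base configuration. -/
structure Base (a t p : X) : Prop where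
  kinds : Kinds Z
  ha : orderOf a = 2
  hZa : Z a
  ht : orderOf t = 2
  hZt : ¬ Z t
  hat : a * t = t * a
  hp : orderOf p = 3
  hap : a * p = p * a
  htp : t * p * t⁻¹ = p⁻¹
  list : ∀ g : X, g * a = a * g → ∃ i : ℤ, g = p ^ i ∨ g = a * p ^ i ∨ g = p ^ i * t ∨ g = a * p ^ i * t

theorem exists_base (h : Kinds Z) : ∃ a t p : X, Base Z a t p := by
  obtain ⟨a0, ha0, hZa0⟩ := h.exZ
  obtain ⟨t, ht, hZt⟩ := h.exN
  obtain ⟨g, hg⟩ := h.exists_into ht hZt ha0
  set a := g * a0 * g⁻¹
  have ha : orderOf a = 2 := by rw [orderOf_conj', ha0]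
  have hZa : Z a := h.conj g a0 hZa0
  set C := centralizer ({a} : Set X) with hCdef
  have hC : Nat.card C = 12 := h.twelve a ha hZa
  obtain ⟨⟨p, hpC⟩, hp⟩ := exists_prime_orderOf_dvd_card' (G := C) 3 (hC ▸ by norm_num)
  rw [Subgroup.orderOf_mk] at hp
  have hap : a * p = p * a := (mem_cent.1 hpC).symm
  have hap6 : orderOf (a * p) = 6 := by
    rw [Commute.orderOf_mul_eq_mul_orderOf_of_coprime hap (by rw [ha, hp]; norm_num), ha, hp]
  have haC : a ∈ C := mem_cent.2 rfl
  have htC : t ∈ C := mem_cent.2 hg.symm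
  set M := (zpowers (a * p)).subgroupOf C with hMdef
  have hle : zpowers (a * p) ≤ C := zpowers_le.2 (mul_mem haC hpC)
  have hMi : M.index = 2 := by
    have h1 := M.card_mul_index
    rw [hMdef, Nat.card_congr (subgroupOfEquivOfLe hle).toEquiv, Nat.card_zpowers, hap6, hC] at h1
    rw [hMdef]; omega
  haveI := Subgroup.normal_of_index_eq_two hMi
  have hpM : p ∈ zpowers (a * p) := by
    refine ⟨4, ?_⟩
    show (a * p) ^ (4 : ℤ) = p
    rw [Commute.mul_zpow hap, show (4 : ℤ) = ((4 : ℕ) : ℤ) from rfl, zpow_natCast, zpow_natCast,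
      ← pow_mod_orderOf a, ha, ← pow_mod_orderOf p, hp]
    simp
  have haM : a ∈ zpowers (a * p) := by
    refine ⟨3, ?_⟩
    show (a * p) ^ (3 : ℤ) = a
    rw [Commute.mul_zpow hap, show (3 : ℤ) = ((3 : ℕ) : ℤ) from rfl, zpow_natCast, zpow_natCast,
      ← pow_mod_orderOf a, ha, ← pow_mod_orderOf p, hp]
    simp
  have hform : ∀ x ∈ zpowers (a * p), ∃ i : ℤ, x = p ^ i ∨ x = a * p ^ i := by
    rintro x ⟨i, rfl⟩
    refine ⟨i, ?_⟩
    show (a * p) ^ i = _ ∨ (a * p) ^ i = _
    rw [Commute.mul_zpow hap]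
    rcases Int.even_or_odd i with ⟨k, rfl⟩ | ⟨k, rfl⟩
    · left
      rw [zpow_add a, ← Commute.mul_zpow (Commute.refl a), CfsgLib.Invol.mul_self_eq_one ha, one_zpow, one_mul]
    · right
      rw [zpow_add a, zpow_one, two_mul, zpow_add a, ← Commute.mul_zpow (Commute.refl a),
        CfsgLib.Invol.mul_self_eq_one ha, one_zpow, one_mul]
  have htM : (⟨t, htC⟩ : C) ∉ M := by
    intro hh
    rcases hform t (mem_subgroupOf.1 hh) with ⟨i, hi | hi⟩
    · have : orderOf t ∣ 3 := by rw [hi, ← hp]; exact orderOf_dvd_of_mem_zpowers ⟨i, rfl⟩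
      rw [ht] at this; omega
    · have h2 : a * t ∈ zpowers p := ⟨i, by rw [hi, ← mul_assoc, CfsgLib.Invol.mul_self_eq_one ha, one_mul]⟩
      have hne : a ≠ t := fun e => hZt (e ▸ hZa)
      have := orderOf_dvd_of_mem_zpowers h2
      rw [mul_orderOf_two ha ht hg hne, hp] at this; omega
  have htp : t * p * t⁻¹ = p⁻¹ := by
    have hm : t * p * t⁻¹ ∈ zpowers (a * p) :=
      mem_subgroupOf.1 (this.conj_mem ⟨p, hpC⟩ (mem_subgroupOf.2 hpM) ⟨t, htC⟩)
    have ho : orderOf (t * p * t⁻¹) = 3 := by rw [orderOf_conj', hp]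
    rcases hform _ hm with ⟨i, hi | hi⟩
    · have hpt : t * p * t⁻¹ ≠ p := fun e => by
        have hc : p ∈ centralizer ({t} : Set X) :=
          mem_cent.2 (by calc p * t = t * p * t⁻¹ * t := by rw [e]
            _ = t * p := by group)
        have := Subgroup.orderOf_dvd_natCard _ hc
        rw [hp, h.eight t ht hZt] at this; omega
      have hmod : p ^ i = p ^ (i % 3) := by rw [← zpow_mod_orderOf p i, hp]; norm_num
      rw [hi, hmod]
      have h1 := Int.emod_nonneg i (by norm_num : (3 : ℤ) ≠ 0)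
      have h2 := Int.emod_lt_of_pos i (by norm_num : (0 : ℤ) < 3)
      interval_cases hh : i % 3
      · exfalso
        rw [hi, hmod, zpow_zero, orderOf_one] at ho; omega
      · exact absurd (by rw [hi, hmod, zpow_one]) hpt
      · have h3 : p ^ 3 = 1 := hp ▸ pow_orderOf_eq_one p
        refine eq_inv_of_mul_eq_one_left ?_
        rw [show (2 : ℤ) = ((2 : ℕ) : ℤ) from rfl, zpow_natCast, ← pow_succ, h3]
    · exfalso
      have h3 : (t * p * t⁻¹) ^ 3 = 1 := ho ▸ pow_orderOf_eq_one _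
      rw [hi, (Commute.zpow_right (show Commute a p from hap) i).mul_pow, pow_succ a, sq,
        CfsgLib.Invol.mul_self_eq_one ha, one_mul, ← zpow_natCast, ← zpow_mul, mul_comm, zpow_mul,
        show p ^ ((3 : ℕ) : ℤ) = 1 by rw [zpow_natCast, ← hp, pow_orderOf_eq_one], one_zpow, mul_one] at h3
      exact CfsgLib.Invol.ne_one ha h3
  refine ⟨a, t, p, h, ha, hZa, ht, hZt, hg, hp, hap, htp, fun x hx => ?_⟩
  have hxC : x ∈ C := mem_cent.2 hx
  by_cases hxM : (⟨x, hxC⟩ : C) ∈ M
  · obtain ⟨i, hi⟩ := hform x (mem_subgroupOf.1 hxM)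
    exact ⟨i, hi.imp id Or.inl⟩
  · have hmm : (⟨x, hxC⟩ : C) * ⟨t, htC⟩ ∈ M :=
      (Subgroup.mul_mem_iff_of_index_two hMi).2 (iff_of_false hxM htM)
    obtain ⟨i, hi⟩ := hform (x * t) (mem_subgroupOf.1 hmm)
    have hx' : x = (x * t) * t := by rw [mul_assoc, CfsgLib.Invol.mul_self_eq_one ht, mul_one]
    refine ⟨i, Or.inr (Or.inr ?_)⟩
    rcases hi with hi | hi
    · exact Or.inl (by rw [hx', hi])
    · exact Or.inr (by rw [hx', hi])

end CfsgLib.J4Seven
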