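import Cfsg.Agent.J4Seven.Count
import Cfsg.Agent.SimplePower.SymIndex

/-!
A group with the two kinds of involutions is the symmetric group of degree five.
-/

set_option autoImplicit false
set_option linter.style.haveILetI false
set_option linter.unusedSectionVars false

namespace CfsgLib.J4Seven

open Subgroup

/-- A subgroup of index `6` in `S₆` is isomorphic to `S₅`. -/
theorem nonempty_of_index_six {H : Subgroup (Equiv.Perm (Fin 6))} (hH : H.index = 6) :
    Nonempty (↥H ≃* Equiv.Perm (Fin 5)) := by
  classical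
  haveI : Fintype (Equiv.Perm (Fin 6) ⧸ H) := Fintype.ofFinite _
  have hH' : H.index = Fintype.card (Fin 6) := by rw [hH]; rfl
  have h5 : 5 ≤ Fintype.card (Fin 6) := by simp
  let e := CfsgLib.SymIndex.cosetEquiv H h5 hH'
  let ω : Equiv.Perm (Fin 6) ⧸ H := ((1 : Equiv.Perm (Fin 6)) : Equiv.Perm (Fin 6) ⧸ H)
  have hcard : Fintype.card {x : Equiv.Perm (Fin 6) ⧸ H // x ≠ ω} = 5 := by
    rw [Fintype.card_subtype_compl, Fintype.card_subtype_eq, ← Nat.card_eq_fintype_card, ← Subgroup.index, hH]
  have hHe : H.map e.toMonoidHom = MulAction.stabilizer (Equiv.Perm (Equiv.Perm (Fin 6) ⧸ H)) ω := by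
    refine le_antisymm ?_ fun σ hσ => ?_
    · rintro σ ⟨x, hx, rfl⟩
      show MulAction.toPermHom _ _ x ω = ω
      show x • ω = ω
      rw [MulAction.Quotient.smul_mk, smul_eq_mul, mul_one]
      exact QuotientGroup.eq.2 (by simpa using inv_mem hx)
    · obtain ⟨x, rfl⟩ := e.surjective σ
      refine ⟨x, ?_, rfl⟩
      have h1 : x • ω = ω := hσ
      rw [MulAction.Quotient.smul_mk, smul_eq_mul, mul_one] at h1
      simpa using inv_mem (QuotientGroup.eq.1 h1)
  let P := fun x : Equiv.Perm (Fin 6) ⧸ H => x ≠ ω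
  let r : ↥(MulAction.stabilizer (Equiv.Perm (Equiv.Perm (Fin 6) ⧸ H)) ω) →*
      Equiv.Perm {x : Equiv.Perm (Fin 6) ⧸ H // P x} :=
    { toFun := fun σ => (σ.1).subtypePerm fun x => by
        have h : σ.1 ω = ω := σ.2
        exact not_congr ⟨fun e => σ.1.injective (e.trans h.symm), fun e => by rw [e, h]⟩
      map_one' := by ext x; rfl
      map_mul' := fun σ τ => by ext x; rfl }
  have hr : Function.Bijective r := by
    have hinj : Function.Injective r := by
      intro σ τ h
      refine Subtype.ext (Equiv.ext fun x => ?_)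
      by_cases hx : x = ω
      · subst hx
        exact (show σ.1 ω = ω from σ.2).trans (show τ.1 ω = ω from τ.2).symm
      · exact congrArg Subtype.val (Equiv.congr_fun h ⟨x, hx⟩)
    refine (Nat.bijective_iff_injective_and_card _).2 ⟨hinj, ?_⟩
    rw [← hHe, ← Nat.card_congr (H.equivMapOfInjective e.toMonoidHom e.injective).toEquiv, Nat.card_perm,
      Nat.card_eq_fintype_card (α := {x : Equiv.Perm (Fin 6) ⧸ H // P x})]
    have h1 := H.card_mul_index
    rw [hH, Nat.card_perm, Nat.card_fin] at h1
    rw [show Fintype.card {x : Equiv.Perm (Fin 6) ⧸ H // P x} = 5 from hcard]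
    simp only [Nat.factorial] at h1 ⊢
    omega
  exact ⟨((H.equivMapOfInjective e.toMonoidHom e.injective).trans (MulEquiv.subgroupCongr hHe)).trans
    ((MulEquiv.ofBijective r hr).trans (Fintype.equivFinOfCardEq hcard).permCongrHom)⟩

variable {X : Type*} [Group X] [Finite X] {Z : X → Prop}

theorem Kinds.nonempty_symFive (h : Kinds Z) : Nonempty (X ≃* Equiv.Perm (Fin 5)) := by
  classical
  have h120 := card_eq h
  obtain ⟨a, t, p, hB⟩ := exists_base h
  haveI : Fact (Nat.Prime 5) := ⟨by norm_num⟩
  have hcentInv : ∀ u : X, orderOf u = 2 → ∀ f : X, orderOf f = 5 → u * f ≠ f * u := by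
    intro u hu f hf e
    have hd := Subgroup.orderOf_dvd_natCard (centralizer ({u} : Set X)) (show f ∈ _ from mem_cent.2 e.symm)
    by_cases hZu : Z u
    · rw [hf, h.twelve u hu hZu] at hd; omega
    · rw [hf, h.eight u hu hZu] at hd; omega
  have hS5 : ∀ R : Sylow 5 X, Nat.card (R : Subgroup X) = 5 := fun R => by
    rw [R.card_eq_multiplicity, h120, show (120 : ℕ) = 5 ^ 1 * 24 from rfl,
      Nat.factorization_mul (by norm_num) (by norm_num), Finsupp.add_apply,
      Nat.Prime.factorization_pow (by norm_num : Nat.Prime 5), Finsupp.single_eq_same,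
      Nat.factorization_eq_zero_of_not_dvd (by norm_num : ¬ 5 ∣ 24), add_zero, pow_one]
  obtain ⟨R⟩ : Nonempty (Sylow 5 X) := Sylow.nonempty
  have hn6 : Nat.card (Sylow 5 X) = 6 := by
    have h1 := card_sylow_modEq_one 5 X
    have h2 : Nat.card (Sylow 5 X) ∣ 24 := by
      have := Sylow.card_dvd_index R
      have hi := (R : Subgroup X).card_mul_index
      rw [hS5 R, h120] at hi
      rwa [show (R : Subgroup X).index = 24 by omega] at this
    have h3 : Nat.card (Sylow 5 X) ≠ 1 := by
      intro hone
      haveI hsub : Subsingleton (Sylow 5 X) := (Nat.card_eq_one_iff_unique.1 hone).1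
      haveI : (R : Subgroup X).Normal := Sylow.normal_of_subsingleton R
      obtain ⟨f, hf⟩ := exists_prime_orderOf_dvd_card' (G := (R : Subgroup X)) 5 (by rw [hS5 R])
      rw [← Subgroup.orderOf_coe] at hf
      have hz : zpowers (f : X) = (R : Subgroup X) :=
        eq_of_le_of_card_ge (zpowers_le.2 f.2) (by rw [hS5 R, Nat.card_zpowers, hf])
      have hinv : ∀ u : X, orderOf u = 2 → u * f * u⁻¹ = (f : X)⁻¹ := by
        intro u hu
        set g := u * f * u⁻¹ * (f : X) with hg
        have hgR : g ∈ zpowers (f : X) := by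
          rw [hz]; exact mul_mem (this.conj_mem f f.2 u) f.2
        have hfu : u * (u * f * u⁻¹) * u⁻¹ = f := by
          rw [inv_of_two hu, show u * (u * f * u) * u = (u * u) * f * (u * u) by group,
            CfsgLib.Invol.mul_self_eq_one hu, one_mul, mul_one]
        obtain ⟨i, hi⟩ := hgR
        have hgf : g * (f : X) = f * g := by
          rw [← hi]; exact (Commute.zpow_left (Commute.refl _) i).eq
        have hcm : (f : X) * (u * f * u⁻¹) = u * f * u⁻¹ * f := by
          have h' : u * f * u⁻¹ * (f : X) * f = f * (u * f * u⁻¹ * f) := hgf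
          rw [← mul_assoc] at h'
          exact (mul_right_cancel h').symm
        have hug : u * g = g * u := by
          calc u * g = u * (u * f * u⁻¹ * f) * u⁻¹ * u := by rw [hg]; group
            _ = (u * (u * f * u⁻¹) * u⁻¹) * (u * f * u⁻¹) * u := by group
            _ = g * u := by rw [hfu, hcm]
        by_contra hne
        have hg1 : g ≠ 1 := fun e => hne (by rw [eq_inv_iff_mul_eq_one]; exact e)
        have hg5 : orderOf g = 5 :=
          ((Nat.dvd_prime (by norm_num : Nat.Prime 5)).1 (hf ▸ orderOf_dvd_of_mem_zpowers ⟨i, hi⟩)).resolve_left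
            (fun e => hg1 (orderOf_eq_one_iff.1 e))
        exact hcentInv u hu g hg5 hug
      refine hcentInv (a * t) (mul_orderOf_two hB.ha hB.ht hB.hat hB.a_ne) f hf ?_
      have ha' := hinv a hB.ha
      have ht' := hinv t hB.ht
      calc a * t * f = a * (t * f * t⁻¹) * a⁻¹ * (a * t) := by group
        _ = (a * f * a⁻¹)⁻¹ * (a * t) := by rw [ht']; group
        _ = f * (a * t) := by rw [ha', inv_inv]
    have h4 : Nat.card (Sylow 5 X) ≤ 24 := Nat.le_of_dvd (by norm_num) h2
    have h1' : Nat.card (Sylow 5 X) % 5 = 1 := h1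
    interval_cases hc : Nat.card (Sylow 5 X) <;> omega
  let f : X →* Equiv.Perm (Sylow 5 X) := MulAction.toPermHom X (Sylow 5 X)
  have hker : f.ker = ⊥ := by
    have hfix : ∀ k ∈ f.ker, ∀ Q : Sylow 5 X, k • Q = Q := fun k hk Q => Equiv.congr_fun (MonoidHom.mem_ker.1 hk) Q
    have hle : ∀ Q : Sylow 5 X, f.ker ≤ normalizer ((Q : Subgroup X) : Set X) := fun Q k hk =>
      Sylow.smul_eq_iff_mem_normalizer.1 (hfix k hk Q)
    have h5 : ¬ 5 ∣ Nat.card f.ker := by
      intro hd
      obtain ⟨⟨k, hk⟩, hko⟩ := exists_prime_orderOf_dvd_card' 5 hd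
      rw [Subgroup.orderOf_mk] at hko
      have hall : ∀ Q : Sylow 5 X, (Q : Subgroup X) = zpowers k := by
        intro Q
        have hpk : IsPGroup 5 ↥(zpowers k) := IsPGroup.of_card (n := 1) (by rw [Nat.card_zpowers, hko, pow_one])
        obtain ⟨T, hT⟩ := (hpk.to_sup_of_normal_right' Q.2 (zpowers_le.2 (hle Q hk))).exists_le_sylow
        have hTQ : T = Q := (Sylow.ext (eq_of_le_of_card_ge (le_sup_right.trans hT) (by rw [hS5 T, hS5 Q]))).symm
        exact (eq_of_le_of_card_ge ((le_sup_left.trans hT).trans (hTQ ▸ le_rfl))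
          (by rw [hS5 Q, Nat.card_zpowers, hko])).symm
      haveI : Subsingleton (Sylow 5 X) := ⟨fun Q Q' => Sylow.ext ((hall Q).trans (hall Q').symm)⟩
      rw [Nat.card_of_subsingleton R] at hn6
      omega
    by_contra hne
    obtain ⟨q, hq, hqd⟩ := Nat.exists_prime_and_dvd (n := Nat.card f.ker)
      (fun e => hne (Subgroup.card_eq_one.1 e))
    haveI : Fact q.Prime := ⟨hq⟩
    obtain ⟨⟨k, hk⟩, hko⟩ := exists_prime_orderOf_dvd_card' q hqd
    rw [Subgroup.orderOf_mk] at hko
    obtain ⟨r, hr⟩ := exists_prime_orderOf_dvd_card' (G := (R : Subgroup X)) 5 (by rw [hS5 R])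
    rw [← Subgroup.orderOf_coe] at hr
    have hcm : k * r = r * k := by
      have h1 : k * r * k⁻¹ * (r : X)⁻¹ ∈ f.ker ⊓ (R : Subgroup X) := by
        refine Subgroup.mem_inf.2 ⟨?_, (R : Subgroup X).mul_mem ((mem_normalizer_iff.1 (hle R hk) _).1 r.2)
          ((R : Subgroup X).inv_mem r.2)⟩
        rw [mul_assoc k, mul_assoc k]
        exact f.ker.mul_mem hk ((MonoidHom.normal_ker f).conj_mem _ (f.ker.inv_mem hk) (r : X))
      have h2 : f.ker ⊓ (R : Subgroup X) = ⊥ := by
        refine Subgroup.inf_eq_bot_of_coprime ?_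
        rw [hS5 R]
        exact Nat.Coprime.symm ((Nat.Prime.coprime_iff_not_dvd (by norm_num)).2 h5)
      rw [h2, mem_bot, mul_inv_eq_one] at h1
      calc k * r = k * r * k⁻¹ * k := by group
        _ = r * k := by rw [h1]
    have hq' : q = 2 ∨ q = 3 := by
      have hd : q ∣ 24 := by
        have := card_dvd_of_le (hle R)
        have hN := Subgroup.card_mul_index (normalizer ((R : Subgroup X) : Set X))
        rw [show (normalizer ((R : Subgroup X) : Set X)).index = 6 from R.card_eq_index_normalizer.symm.trans hn6,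
          h120] at hN
        have h20 : Nat.card (normalizer ((R : Subgroup X) : Set X)) = 20 := by omega
        rw [h20] at this
        have h120' : q ∣ 20 := hqd.trans this
        have hne5 : q ≠ 5 := fun e => h5 (e ▸ hqd)
        have hcop : Nat.Coprime q 5 := (Nat.coprime_primes hq (by norm_num)).2 hne5
        exact (hcop.dvd_of_dvd_mul_right (show q ∣ 4 * 5 from h120')).trans (by norm_num)
      rcases (hq.dvd_mul.1 (show q ∣ 8 * 3 from hd)) with e | e
      · exact Or.inl ((Nat.prime_dvd_prime_iff_eq hq Nat.prime_two).1 (hq.dvd_of_dvd_pow (show q ∣ 2 ^ 3 from e)))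
      · exact Or.inr ((Nat.prime_dvd_prime_iff_eq hq Nat.prime_three).1 e)
    rcases hq' with rfl | rfl
    · exact hcentInv k hko r hr hcm
    · -- order three would divide twenty
      have := card_dvd_of_le (hle R)
      have hN := Subgroup.card_mul_index (normalizer ((R : Subgroup X) : Set X))
      rw [show (normalizer ((R : Subgroup X) : Set X)).index = 6 from R.card_eq_index_normalizer.symm.trans hn6,
          h120] at hN
      rw [show Nat.card (normalizer ((R : Subgroup X) : Set X)) = 20 by omega] at this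
      exact absurd (hqd.trans this) (by norm_num)
  have hinj : Function.Injective f := (MonoidHom.ker_eq_bot_iff f).1 hker
  let g : X →* Equiv.Perm (Fin 6) := (Finite.equivFinOfCardEq hn6).permCongrHom.toMonoidHom.comp f
  have hg : Function.Injective g := (Finite.equivFinOfCardEq hn6).permCongrHom.injective.comp hinj
  have hidx : g.range.index = 6 := by
    have h1 := g.range.card_mul_index
    rw [← Nat.card_congr (MonoidHom.ofInjective hg).toEquiv, h120, Nat.card_perm, Nat.card_fin] at h1
    simp only [Nat.factorial] at h1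
    omega
  obtain ⟨e⟩ := nonempty_of_index_six hidx
  exact ⟨(MonoidHom.ofInjective hg).trans e⟩

theorem isConj_of_sign_eq {u v : Equiv.Perm (Fin 5)} (hu : orderOf u = 2) (hv : orderOf v = 2)
    (h : Equiv.Perm.sign u = Equiv.Perm.sign v) : IsConj u v := by
  have key : ∀ w : Equiv.Perm (Fin 5), orderOf w = 2 → ∃ k, k ≤ 2 ∧ 1 ≤ k ∧
      w.cycleType = Multiset.replicate k 2 ∧ Equiv.Perm.sign w = (-1) ^ k := by
    intro w hw
    have hrep : ∀ n ∈ w.cycleType, n = 2 := fun n hn =>
      (Nat.dvd_prime Nat.prime_two).1 (hw ▸ Equiv.Perm.dvd_of_mem_cycleType hn) |>.resolve_left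
        (by have := Equiv.Perm.two_le_of_mem_cycleType hn; omega)
    have e := Multiset.eq_replicate_card.2 hrep
    refine ⟨Multiset.card w.cycleType, ?_, ?_, e, ?_⟩
    · have h1 := Equiv.Perm.sum_cycleType w
      have h2 := Finset.card_le_univ w.support
      rw [e, Multiset.sum_replicate, smul_eq_mul] at h1
      rw [Fintype.card_fin] at h2
      omega
    · rw [Nat.one_le_iff_ne_zero, Multiset.card_eq_zero.ne, Ne, Equiv.Perm.cycleType_eq_zero]
      intro h1
      rw [h1, orderOf_one] at hw
      omega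
    · rw [Equiv.Perm.sign_of_cycleType]
      conv_lhs => rw [e]
      simp only [Multiset.sum_replicate, Multiset.card_replicate, smul_eq_mul]
      rw [pow_add, pow_mul', neg_one_sq, one_pow, one_mul]
  obtain ⟨i, hi2, hi1, hi, hsi⟩ := key u hu
  obtain ⟨j, hj2, hj1, hj, hsj⟩ := key v hv
  rw [Equiv.Perm.isConj_iff_cycleType_eq, hi, hj]
  rw [hsi, hsj] at h
  interval_cases i <;> interval_cases j <;> first | rfl | simp at h

/-- The involutions of the first kind form one class. -/
theorem Kinds.isConj_Z (h : Kinds Z) {u v : X} (hu : orderOf u = 2) (hZu : Z u) (hv : orderOf v = 2)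
    (hZv : Z v) : IsConj u v := by
  obtain ⟨e⟩ := h.nonempty_symFive
  obtain ⟨r, hr, hZr⟩ := h.exN
  have back : ∀ a b : X, orderOf a = 2 → orderOf b = 2 →
      Equiv.Perm.sign (e a) = Equiv.Perm.sign (e b) → IsConj a b := by
    intro a b ha hb hab
    have := MonoidHom.map_isConj e.symm.toMonoidHom
      (isConj_of_sign_eq (by rw [MulEquiv.orderOf_eq, ha]) (by rw [MulEquiv.orderOf_eq, hb]) hab)
    simpa using this
  rcases Int.units_eq_one_or (Equiv.Perm.sign (e u)) with a | a <;>
    rcases Int.units_eq_one_or (Equiv.Perm.sign (e v)) with b | b <;>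
    rcases Int.units_eq_one_or (Equiv.Perm.sign (e r)) with c | c
  all_goals first
    | exact back u v hu hv (a.trans b.symm)
    | exact absurd ((h.iff_of_conj (back u r hu hr (a.trans c.symm))).1 hZu) hZr
    | exact absurd ((h.iff_of_conj (back v r hv hr (b.trans c.symm))).1 hZv) hZr

end CfsgLib.J4Seven
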